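import Cfsg.Agent.LieClassical.OrthTrans

/-!
# S1920, case B, orthogonal groups, section 5, Arf invariant 0: the linear algebra (helper100)

`AZ Q ε sh n1 n2 m1 m2` : isometries; on `V_ε = {v | sh v = ε • v}` the elements `n1, m1, n2, m2` form a hyperbolic basis.
`InM` : the space `M` of common fixed vectors of `n1`, `n2` in `V_ε`.
`exists_rho` : for `u ∈ M` nonsingular, `1 ⊗ refl u` lies in `E Q`.
-/

set_option autoImplicit false
set_option linter.unusedSectionVars false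

namespace Cfsg.Agent.H100.C3

open QuadraticMap Cfsg.Agent.LieClassical.OrthCore Cfsg.Agent.LieClassical.OrthTrans

variable {K V : Type*} [Field K] [AddCommGroup V] [Module K V] {Q : QuadraticForm K V}

structure AZ (Q : QuadraticForm K V) (ε : K) (sh n1 n2 m1 m2 : V ≃ₗ[K] V) : Prop where
  two : (2 : K) ≠ 0
  eps : ε * ε = 1
  sO : sh ∈ O Q
  n1O : n1 ∈ O Q
  n2O : n2 ∈ O Q
  m1O : m1 ∈ O Q
  m2O : m2 ∈ O Q
  s4 : ∀ v, sh (sh (sh (sh v))) = v
  sn1 : ∀ v, sh (n1 v) = n1 (sh v)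
  sn2 : ∀ v, sh (n2 v) = n2 (sh v)
  sm1 : ∀ v, sh (m1 v) = m1 (sh v)
  sm2 : ∀ v, sh (m2 v) = m2 (sh v)
  n11 : ∀ v, sh v = ε • v → n1 (n1 v) = v
  n22 : ∀ v, sh v = ε • v → n2 (n2 v) = v
  m11 : ∀ v, sh v = ε • v → m1 (m1 v) = v
  m22 : ∀ v, sh v = ε • v → m2 (m2 v) = v
  nn : ∀ v, sh v = ε • v → n1 (n2 v) = n2 (n1 v)
  mm : ∀ v, sh v = ε • v → m1 (m2 v) = m2 (m1 v)
  nm12 : ∀ v, sh v = ε • v → n1 (m2 v) = m2 (n1 v)
  nm21 : ∀ v, sh v = ε • v → n2 (m1 v) = m1 (n2 v)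
  nm11 : ∀ v, sh v = ε • v → n1 (m1 v) = - m1 (n1 v)
  nm22 : ∀ v, sh v = ε • v → n2 (m2 v) = - m2 (n2 v)

/-- the vectors of `M` -/
def InM (ε : K) (sh n1 n2 : V ≃ₗ[K] V) (v : V) : Prop := sh v = ε • v ∧ n1 v = v ∧ n2 v = v

/-- the space `M` -/
def MM (ε : K) (sh n1 n2 : V ≃ₗ[K] V) : Submodule K V where
  carrier := {v | InM ε sh n1 n2 v}
  add_mem' := fun {a b} ha hb => ⟨by rw [map_add, ha.1, hb.1, smul_add], by rw [map_add, ha.2.1, hb.2.1],
    by rw [map_add, ha.2.2, hb.2.2]⟩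
  zero_mem' := ⟨by rw [map_zero, smul_zero], map_zero _, map_zero _⟩
  smul_mem' := fun c v hv => ⟨by rw [map_smul, hv.1, smul_comm], by rw [map_smul, hv.2.1], by rw [map_smul, hv.2.2]⟩

theorem mem_MM {ε : K} {sh n1 n2 : V ≃ₗ[K] V} {v : V} : v ∈ MM ε sh n1 n2 ↔ InM ε sh n1 n2 v := Iff.rfl

theorem perp (h2 : (2 : K) ≠ 0) {g : V ≃ₗ[K] V} (hg : g ∈ O Q) {u v : V} (hu : g u = u) (hv : g v = -v) :
    polar Q u v = 0 := by
  have h := polar_map hg u v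
  rw [hu, hv, polar_neg_right] at h
  have h3 : (2 : K) * polar Q u v = 0 := by linear_combination -h
  exact (mul_eq_zero.1 h3).resolve_left h2

theorem perp' (h2 : (2 : K) ≠ 0) {g : V ≃ₗ[K] V} (hg : g ∈ O Q) {u v : V} (hu : g u = -u) (hv : g v = v) :
    polar Q u v = 0 := by
  rw [polar_comm]; exact perp h2 hg hv hu

namespace AZ

variable {ε : K} {sh n1 n2 m1 m2 : V ≃ₗ[K] V}

theorem e1 (h : AZ Q ε sh n1 n2 m1 m2) {u : V} (hu : InM ε sh n1 n2 u) : sh (m1 u) = ε • m1 u := by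
  rw [h.sm1, hu.1, map_smul]

theorem e2 (h : AZ Q ε sh n1 n2 m1 m2) {u : V} (hu : InM ε sh n1 n2 u) : sh (m2 u) = ε • m2 u := by
  rw [h.sm2, hu.1, map_smul]

theorem e3 (h : AZ Q ε sh n1 n2 m1 m2) {u : V} (hu : InM ε sh n1 n2 u) : sh (m1 (m2 u)) = ε • m1 (m2 u) := by
  rw [h.sm1, h.e2 hu, map_smul]

theorem a11 (h : AZ Q ε sh n1 n2 m1 m2) {u : V} (hu : InM ε sh n1 n2 u) : n1 (m1 u) = - m1 u := by
  rw [h.nm11 u hu.1, hu.2.1]

theorem a21 (h : AZ Q ε sh n1 n2 m1 m2) {u : V} (hu : InM ε sh n1 n2 u) : n2 (m1 u) = m1 u := by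
  rw [h.nm21 u hu.1, hu.2.2]

theorem a12 (h : AZ Q ε sh n1 n2 m1 m2) {u : V} (hu : InM ε sh n1 n2 u) : n1 (m2 u) = m2 u := by
  rw [h.nm12 u hu.1, hu.2.1]

theorem a22 (h : AZ Q ε sh n1 n2 m1 m2) {u : V} (hu : InM ε sh n1 n2 u) : n2 (m2 u) = - m2 u := by
  rw [h.nm22 u hu.1, hu.2.2]

theorem a13 (h : AZ Q ε sh n1 n2 m1 m2) {u : V} (hu : InM ε sh n1 n2 u) : n1 (m1 (m2 u)) = - m1 (m2 u) := by
  rw [h.nm11 _ (h.e2 hu), h.a12 hu]

theorem a23 (h : AZ Q ε sh n1 n2 m1 m2) {u : V} (hu : InM ε sh n1 n2 u) : n2 (m1 (m2 u)) = - m1 (m2 u) := by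
  rw [h.nm21 _ (h.e2 hu), h.a22 hu, map_neg]

section perps

variable (h : AZ Q ε sh n1 n2 m1 m2) {u v : V} (hu : InM ε sh n1 n2 u) (hv : InM ε sh n1 n2 v)
include h hu hv

theorem p01 : polar Q u (m1 v) = 0 := perp h.two h.n1O hu.2.1 (h.a11 hv)
theorem p02 : polar Q u (m2 v) = 0 := perp h.two h.n2O hu.2.2 (h.a22 hv)
theorem p03 : polar Q u (m1 (m2 v)) = 0 := perp h.two h.n1O hu.2.1 (h.a13 hv)
theorem p12 : polar Q (m1 u) (m2 v) = 0 := perp' h.two h.n1O (h.a11 hu) (h.a12 hv)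
theorem p13 : polar Q (m1 u) (m1 (m2 v)) = 0 := perp h.two h.n2O (h.a21 hu) (h.a23 hv)
theorem p23 : polar Q (m2 u) (m1 (m2 v)) = 0 := perp h.two h.n1O (h.a12 hu) (h.a13 hv)
theorem p10 : polar Q (m1 u) v = 0 := by rw [polar_comm]; exact h.p01 hv hu
theorem p20 : polar Q (m2 u) v = 0 := by rw [polar_comm]; exact h.p02 hv hu
theorem p30 : polar Q (m1 (m2 u)) v = 0 := by rw [polar_comm]; exact h.p03 hv hu
theorem p21 : polar Q (m2 u) (m1 v) = 0 := by rw [polar_comm]; exact h.p12 hv hu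
theorem p31 : polar Q (m1 (m2 u)) (m1 v) = 0 := by rw [polar_comm]; exact h.p13 hv hu
theorem p32 : polar Q (m1 (m2 u)) (m2 v) = 0 := by rw [polar_comm]; exact h.p23 hv hu
theorem p11 : polar Q (m1 u) (m1 v) = polar Q u v := polar_map h.m1O u v
theorem p22 : polar Q (m2 u) (m2 v) = polar Q u v := polar_map h.m2O u v
theorem p33 : polar Q (m1 (m2 u)) (m1 (m2 v)) = polar Q u v := by
  rw [polar_map h.m1O, polar_map h.m2O]

end perps

/-- the map `1 ⊗ refl u` -/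
def rf (Q : QuadraticForm K V) (m1 m2 : V ≃ₗ[K] V) (u v : V) : V :=
  v - ((Q u)⁻¹ * polar Q u v) • u - ((Q u)⁻¹ * polar Q (m1 u) v) • m1 u - ((Q u)⁻¹ * polar Q (m2 u) v) • m2 u -
    ((Q u)⁻¹ * polar Q (m1 (m2 u)) v) • m1 (m2 u)

theorem exists_rho (h : AZ Q ε sh n1 n2 m1 m2) (hG : Good Q) {u : V} (hu : InM ε sh n1 n2 u) (hQ : Q u ≠ 0) :
    ∃ ρ ∈ E Q, ∀ v, ρ v = rf Q m1 m2 u v := by
  have q1 : Q (m1 u) = Q u := mem_O.1 h.m1O u
  have q2 : Q (m2 u) = Q u := mem_O.1 h.m2O u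
  have q3 : Q (m1 (m2 u)) = Q u := by rw [mem_O.1 h.m1O, q2]
  have h1 : Q (m1 u) ≠ 0 := by rwa [q1]
  have h2 : Q (m2 u) ≠ 0 := by rwa [q2]
  have h3 : Q (m1 (m2 u)) ≠ 0 := by rwa [q3]
  refine ⟨(refl Q u hQ * refl Q (m1 u) h1) * (refl Q (m2 u) h2 * refl Q (m1 (m2 u)) h3),
    mul_mem (hG.refl_mul_refl_mem h1 hQ q1) (hG.refl_mul_refl_mem h3 h2 (by rw [q3, q2])), fun v => ?_⟩
  change refl Q u hQ (refl Q (m1 u) h1 (refl Q (m2 u) h2 (refl Q (m1 (m2 u)) h3 v))) = _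
  simp only [refl_apply, polar_sub_right, polar_smul_right, h.p01 hu hu, h.p02 hu hu, h.p03 hu hu, h.p12 hu hu,
    h.p13 hu hu, h.p23 hu hu, q1, q2, q3, smul_zero, sub_zero, rf]
  abel

section rf

variable (h : AZ Q ε sh n1 n2 m1 m2) {u : V} (hu : InM ε sh n1 n2 u)
include h hu

theorem rf_of_perp {v : V} (h0 : polar Q u v = 0) (h1 : polar Q (m1 u) v = 0) (h2 : polar Q (m2 u) v = 0)
    (h3 : polar Q (m1 (m2 u)) v = 0) : rf Q m1 m2 u v = v := by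
  rw [rf, h0, h1, h2, h3]
  simp

theorem rf_M {v : V} (hv : InM ε sh n1 n2 v) : rf Q m1 m2 u v = v - ((Q u)⁻¹ * polar Q u v) • u := by
  rw [rf, h.p10 hu hv, h.p20 hu hv, h.p30 hu hv]
  simp

theorem rf_n1 (v : V) : rf Q m1 m2 u (n1 v) = n1 (rf Q m1 m2 u v) := by
  have h0 : polar Q u (n1 v) = polar Q u v := by
    have := polar_map h.n1O u v
    rwa [hu.2.1] at this
  have h1 : polar Q (m1 u) (n1 v) = - polar Q (m1 u) v := by
    have := polar_map h.n1O (m1 u) v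
    rw [h.a11 hu, polar_neg_left] at this
    linear_combination -this
  have h2 : polar Q (m2 u) (n1 v) = polar Q (m2 u) v := by
    have := polar_map h.n1O (m2 u) v
    rwa [h.a12 hu] at this
  have h3 : polar Q (m1 (m2 u)) (n1 v) = - polar Q (m1 (m2 u)) v := by
    have := polar_map h.n1O (m1 (m2 u)) v
    rw [h.a13 hu, polar_neg_left] at this
    linear_combination -this
  simp only [rf, h0, h1, h2, h3, map_sub, map_smul, hu.2.1, h.a11 hu, h.a12 hu, h.a13 hu]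
  module

theorem rf_n2 (v : V) : rf Q m1 m2 u (n2 v) = n2 (rf Q m1 m2 u v) := by
  have h0 : polar Q u (n2 v) = polar Q u v := by
    have := polar_map h.n2O u v
    rwa [hu.2.2] at this
  have h1 : polar Q (m1 u) (n2 v) = polar Q (m1 u) v := by
    have := polar_map h.n2O (m1 u) v
    rwa [h.a21 hu] at this
  have h2 : polar Q (m2 u) (n2 v) = - polar Q (m2 u) v := by
    have := polar_map h.n2O (m2 u) v
    rw [h.a22 hu, polar_neg_left] at this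
    linear_combination -this
  have h3 : polar Q (m1 (m2 u)) (n2 v) = - polar Q (m1 (m2 u)) v := by
    have := polar_map h.n2O (m1 (m2 u)) v
    rw [h.a23 hu, polar_neg_left] at this
    linear_combination -this
  simp only [rf, h0, h1, h2, h3, map_sub, map_smul, hu.2.2, h.a21 hu, h.a22 hu, h.a23 hu]
  module

theorem rf_m1 (v : V) : rf Q m1 m2 u (m1 v) = m1 (rf Q m1 m2 u v) := by
  have hm : ∀ w, sh w = ε • w → polar Q w (m1 v) = polar Q (m1 w) v := by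
    intro w hw
    have := polar_map h.m1O (m1 w) v
    rw [h.m11 w hw] at this
    exact this
  have h0 := hm u hu.1
  have h1 := hm (m1 u) (h.e1 hu)
  have h2 := hm (m2 u) (h.e2 hu)
  have h3 := hm (m1 (m2 u)) (h.e3 hu)
  rw [h.m11 u hu.1] at h1
  rw [h.m11 _ (h.e2 hu)] at h3
  simp only [rf, h0, h1, h2, h3, map_sub, map_smul, h.m11 u hu.1, h.m11 _ (h.e2 hu)]
  abel

theorem rf_m2 (v : V) : rf Q m1 m2 u (m2 v) = m2 (rf Q m1 m2 u v) := by
  have hm : ∀ w, sh w = ε • w → polar Q w (m2 v) = polar Q (m2 w) v := by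
    intro w hw
    have := polar_map h.m2O (m2 w) v
    rw [h.m22 w hw] at this
    exact this
  have e21 : m2 (m1 u) = m1 (m2 u) := (h.mm u hu.1).symm
  have e23 : m2 (m1 (m2 u)) = m1 u := by rw [← h.mm _ (h.e2 hu), h.m22 u hu.1]
  have h0 := hm u hu.1
  have h1 := hm (m1 u) (h.e1 hu)
  have h2 := hm (m2 u) (h.e2 hu)
  have h3 := hm (m1 (m2 u)) (h.e3 hu)
  rw [e21] at h1
  rw [h.m22 u hu.1] at h2
  rw [e23] at h3
  simp only [rf, h0, h1, h2, h3, map_sub, map_smul, h.m22 u hu.1, e21, e23]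
  abel

theorem rf_sh (v : V) : rf Q m1 m2 u (sh v) = sh (rf Q m1 m2 u v) := by
  have he : ε ≠ 0 := fun h0 => by have := h.eps; rw [h0, zero_mul] at this; exact zero_ne_one this
  have hm : ∀ w, sh w = ε • w → polar Q w (sh v) = ε * polar Q w v := by
    intro w hw
    have := polar_map h.sO w v
    rw [hw, polar_smul_left, smul_eq_mul] at this
    have h5 := h.eps
    linear_combination (ε) * this - (polar Q w (sh v)) * h5
  have h0 := hm u hu.1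
  have h1 := hm (m1 u) (h.e1 hu)
  have h2 := hm (m2 u) (h.e2 hu)
  have h3 := hm (m1 (m2 u)) (h.e3 hu)
  simp only [rf, h0, h1, h2, h3, map_sub, map_smul, hu.1, h.e1 hu, h.e2 hu, h.e3 hu]
  module

theorem rf_rf (hQ : Q u ≠ 0) (v : V) : rf Q m1 m2 u (rf Q m1 m2 u v) = v := by
  have q0 : polar Q u u = 2 * Q u := polar_self' _
  have q1 : polar Q (m1 u) (m1 u) = 2 * Q u := by rw [h.p11 hu hu, q0]
  have q2 : polar Q (m2 u) (m2 u) = 2 * Q u := by rw [h.p22 hu hu, q0]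
  have q3 : polar Q (m1 (m2 u)) (m1 (m2 u)) = 2 * Q u := by rw [h.p33 hu hu, q0]
  have k0 : polar Q u (rf Q m1 m2 u v) = - polar Q u v := by
    simp only [rf, polar_sub_right, polar_smul_right, q0, h.p01 hu hu, h.p02 hu hu, h.p03 hu hu, smul_eq_mul]
    field_simp
    ring
  have k1 : polar Q (m1 u) (rf Q m1 m2 u v) = - polar Q (m1 u) v := by
    simp only [rf, polar_sub_right, polar_smul_right, q1, h.p10 hu hu, h.p12 hu hu, h.p13 hu hu, smul_eq_mul]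
    field_simp
    ring
  have k2 : polar Q (m2 u) (rf Q m1 m2 u v) = - polar Q (m2 u) v := by
    simp only [rf, polar_sub_right, polar_smul_right, q2, h.p20 hu hu, h.p21 hu hu, h.p23 hu hu, smul_eq_mul]
    field_simp
    ring
  have k3 : polar Q (m1 (m2 u)) (rf Q m1 m2 u v) = - polar Q (m1 (m2 u)) v := by
    simp only [rf, polar_sub_right, polar_smul_right, q3, h.p30 hu hu, h.p31 hu hu, h.p32 hu hu, smul_eq_mul]
    field_simp
    ring
  rw [rf, k0, k1, k2, k3, rf]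
  module

theorem rf_comm {u' : V} (hu' : InM ε sh n1 n2 u') (h0 : polar Q u u' = 0) (v : V) :
    rf Q m1 m2 u (rf Q m1 m2 u' v) = rf Q m1 m2 u' (rf Q m1 m2 u v) := by
  have h0' : polar Q u' u = 0 := by rw [polar_comm, h0]
  simp only [rf, polar_sub_right, polar_smul_right, h0, h0', h.p01 hu hu', h.p02 hu hu', h.p03 hu hu', h.p10 hu hu',
    h.p12 hu hu', h.p13 hu hu', h.p20 hu hu', h.p21 hu hu', h.p23 hu hu', h.p30 hu hu', h.p31 hu hu', h.p32 hu hu',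
    h.p01 hu' hu, h.p02 hu' hu, h.p03 hu' hu, h.p10 hu' hu,
    h.p12 hu' hu, h.p13 hu' hu, h.p20 hu' hu, h.p21 hu' hu, h.p23 hu' hu, h.p30 hu' hu, h.p31 hu' hu, h.p32 hu' hu,
    h.p11 hu hu', h.p22 hu hu', h.p33 hu hu', h.p11 hu' hu, h.p22 hu' hu, h.p33 hu' hu,
    smul_zero, sub_zero]
  abel

end rf

end AZ

end Cfsg.Agent.H100.C3
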