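import Cfsg.Agent.H100.C3.ArfGeo
import Cfsg.Agent.H415.C3.KitTwo
import Cfsg.Agent.H415.C3.LKit

/-!
# S1920, case B, orthogonal groups, section 5: group theory (helper100)

* `T5v` : no elementary abelian group of order 8 in `C_G(N0)` meeting `⟨s⟩` trivially;
* `N0_gen` : `N0` is generated by `s` and a hyperbolic basis;
* `T6l` : a map `Gh ⊇ preimage of C_G(N0) → {±1}`, multiplicative, trivial on scalars and on `sh`, is trivial.
-/

set_option autoImplicit false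
set_option linter.unusedSectionVars false

open Subgroup Equiv.Perm
open scoped commutatorElement

namespace Cfsg.Agent.H100.C3

open Cfsg.Agent.H415.C3

section group

variable {G : Type*} [Group G]
variable {N0 A E : Subgroup G} {z s x r : G} {ψ : ↥A →* Equiv.Perm (Fin 6)}

theorem pow_mod {H : Type*} [Group H] {a : H} (ha : a ^ 2 = 1) (i : ℕ) : a ^ i = a ^ (i % 2) := by
  conv_lhs => rw [← Nat.div_add_mod i 2, pow_add, pow_mul, ha, one_pow, one_mul]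

theorem no_three (σ τ υ : alternatingGroup (Fin 6)) (hστ : Commute σ τ) (hσυ : Commute σ υ) (hτυ : Commute τ υ)
    (hσ : σ ^ 2 = 1) (hτ : τ ^ 2 = 1) (hυ : υ ^ 2 = 1)
    (h : ∀ i j k : ℕ, σ ^ i * τ ^ j * υ ^ k = 1 → 2 ∣ i ∧ 2 ∣ j ∧ 2 ∣ k) : False := by
  have hmul : ∀ i j k i' j' k' : ℕ, (σ ^ i * τ ^ j * υ ^ k) * (σ ^ i' * τ ^ j' * υ ^ k') =
      σ ^ (i + i') * τ ^ (j + j') * υ ^ (k + k') := by
    intro i j k i' j' k'
    rw [pow_add, pow_add, pow_add]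
    have h1 : Commute (υ ^ k) (σ ^ i') := (hσυ.pow_pow i' k).symm
    have h2 : Commute (υ ^ k) (τ ^ j') := (hτυ.pow_pow j' k).symm
    have h3 : Commute (τ ^ j) (σ ^ i') := (hστ.pow_pow i' j).symm
    calc (σ ^ i * τ ^ j * υ ^ k) * (σ ^ i' * τ ^ j' * υ ^ k')
        = σ ^ i * τ ^ j * (υ ^ k * σ ^ i') * τ ^ j' * υ ^ k' := by simp only [mul_assoc]
      _ = σ ^ i * (τ ^ j * σ ^ i') * (υ ^ k * τ ^ j') * υ ^ k' := by rw [h1.eq]; simp only [mul_assoc]
      _ = _ := by rw [h3.eq, h2.eq]; simp only [mul_assoc]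
  have hsq : ∀ i j k : ℕ, (σ ^ i * τ ^ j * υ ^ k) * (σ ^ i * τ ^ j * υ ^ k) = 1 := by
    intro i j k
    rw [hmul, ← two_mul, ← two_mul, ← two_mul, pow_mul, pow_mul, pow_mul, hσ, hτ, hυ]
    simp
  let W : Subgroup (alternatingGroup (Fin 6)) :=
    { carrier := {w | ∃ i j k : ℕ, w = σ ^ i * τ ^ j * υ ^ k}
      mul_mem' := by
        rintro _ _ ⟨i, j, k, rfl⟩ ⟨i', j', k', rfl⟩
        exact ⟨_, _, _, hmul i j k i' j' k'⟩
      one_mem' := ⟨0, 0, 0, by simp⟩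
      inv_mem' := by
        rintro _ ⟨i, j, k, rfl⟩
        exact ⟨i, j, k, inv_eq_of_mul_eq_one_left (hsq i j k)⟩ }
  have hcomm : ∀ a ∈ W, ∀ b ∈ W, a * b = b * a := by
    rintro _ ⟨i, j, k, rfl⟩ _ ⟨i', j', k', rfl⟩
    rw [hmul, hmul, add_comm i, add_comm j, add_comm k]
  refine no_abelian8 W hcomm ?_
  -- the cardinality
  let F : Fin 2 × Fin 2 × Fin 2 → W := fun p => ⟨σ ^ (p.1 : ℕ) * τ ^ (p.2.1 : ℕ) * υ ^ (p.2.2 : ℕ), _, _, _, rfl⟩
  have hF : Function.Bijective F := by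
    constructor
    · rintro ⟨i, j, k⟩ ⟨i', j', k'⟩ hp
      have h1 : σ ^ (i : ℕ) * τ ^ (j : ℕ) * υ ^ (k : ℕ) = σ ^ (i' : ℕ) * τ ^ (j' : ℕ) * υ ^ (k' : ℕ) :=
        congrArg Subtype.val hp
      have h2 : σ ^ ((i : ℕ) + i') * τ ^ ((j : ℕ) + j') * υ ^ ((k : ℕ) + k') = 1 := by
        rw [← hmul, h1, hsq]
      obtain ⟨h3, h4, h5⟩ := h _ _ _ h2
      have := i.2; have := i'.2; have := j.2; have := j'.2; have := k.2; have := k'.2
      refine Prod.ext (Fin.ext ?_) (Prod.ext (Fin.ext ?_) (Fin.ext ?_)) <;> simp only <;> omega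
    · rintro ⟨_, i, j, k, rfl⟩
      refine ⟨(⟨i % 2, Nat.mod_lt _ (by norm_num)⟩, ⟨j % 2, Nat.mod_lt _ (by norm_num)⟩,
        ⟨k % 2, Nat.mod_lt _ (by norm_num)⟩), Subtype.ext ?_⟩
      change σ ^ (i % 2) * τ ^ (j % 2) * υ ^ (k % 2) = _
      rw [← pow_mod hσ, ← pow_mod hτ, ← pow_mod hυ]
  rw [← Nat.card_congr (Equiv.ofBijective F hF)]
  simp

/-- **T5, elementary abelian groups of order 8** -/
theorem T5v [Finite G] (K : Kit N0 A E z s x r ψ) {a b c : G} (ha : ∀ n ∈ N0, a * n = n * a)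
    (hb : ∀ n ∈ N0, b * n = n * b) (hc : ∀ n ∈ N0, c * n = n * c)
    (hab : Commute a b) (hac : Commute a c) (hbc : Commute b c) (ha2 : a ^ 2 = 1) (hb2 : b ^ 2 = 1) (hc2 : c ^ 2 = 1)
    (h : ∀ i j k : ℕ, a ^ i * b ^ j * c ^ k ∈ zpowers s → 2 ∣ i ∧ 2 ∣ j ∧ 2 ∣ k) : False := by
  have hmem : ∀ i j k : ℕ, ∀ n ∈ N0, a ^ i * b ^ j * c ^ k * n = n * (a ^ i * b ^ j * c ^ k) := by
    intro i j k n hn
    have h1 : Commute a n := ha n hn
    have h2 : Commute b n := hb n hn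
    have h3 : Commute c n := hc n hn
    exact (((h1.pow_left i).mul_left (h2.pow_left j)).mul_left (h3.pow_left k)).eq
  have hpow : ∀ i j k : ℕ, (a ^ i * b ^ j * c ^ k) ^ 2 ^ 1 = 1 := by
    intro i j k
    have h1 : Commute (a ^ i) (b ^ j) := hab.pow_pow i j
    have h2 : Commute (a ^ i * b ^ j) (c ^ k) := ((hac.pow_pow i k)).mul_left (hbc.pow_pow j k)
    rw [pow_one, h2.mul_pow, h1.mul_pow, ← pow_mul, ← pow_mul, ← pow_mul, mul_comm i, mul_comm j, mul_comm k,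
      pow_mul, pow_mul, pow_mul, ha2, hb2, hc2]
    simp
  let u : ↥A := ⟨a, K.comm_mem ha⟩
  let v : ↥A := ⟨b, K.comm_mem hb⟩
  let w : ↥A := ⟨c, K.comm_mem hc⟩
  have hker : ∀ i j k : ℕ, ψ u ^ i * ψ v ^ j * ψ w ^ k = 1 → 2 ∣ i ∧ 2 ∣ j ∧ 2 ∣ k := by
    intro i j k hij
    apply h i j k
    refine K.T4 (hmem i j k) (hpow i j k) ?_
    rw [← map_pow, ← map_pow, ← map_pow, ← map_mul, ← map_mul] at hij
    exact hij
  have hsu : Equiv.Perm.sign (ψ u) = 1 := K.even_of_comm ha u.2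
  have hsv : Equiv.Perm.sign (ψ v) = 1 := K.even_of_comm hb v.2
  have hsw : Equiv.Perm.sign (ψ w) = 1 := K.even_of_comm hc w.2
  let σ : alternatingGroup (Fin 6) := ⟨ψ u, mem_alternatingGroup.2 hsu⟩
  let τ : alternatingGroup (Fin 6) := ⟨ψ v, mem_alternatingGroup.2 hsv⟩
  let υ : alternatingGroup (Fin 6) := ⟨ψ w, mem_alternatingGroup.2 hsw⟩
  have hc1 : ∀ p q : ↥A, (p : G) * q = q * p → ψ p * ψ q = ψ q * ψ p := by
    intro p q hpq
    rw [← map_mul, ← map_mul]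
    exact congrArg ψ (Subtype.ext hpq)
  have hp1 : ∀ p : ↥A, (p : G) ^ 2 = 1 → ψ p ^ 2 = 1 := by
    intro p hp
    rw [← map_pow, ← map_one ψ]
    exact congrArg ψ (Subtype.ext hp)
  exact no_three σ τ υ (Subtype.ext (hc1 u v hab)) (Subtype.ext (hc1 u w hac)) (Subtype.ext (hc1 v w hbc))
    (Subtype.ext (hp1 u ha2)) (Subtype.ext (hp1 v hb2)) (Subtype.ext (hp1 w hc2))
    fun i j k hij => hker i j k (congrArg Subtype.val hij)

open Classical in
/-- the commutator with `a` -/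
noncomputable def chi (K : Kit N0 A E z s x r ψ) {a : G} (ha : a ∈ N0) : ↥N0 →* ℤˣ where
  toFun n := if (n : G) * a = a * n then 1 else -1
  map_one' := by simp
  map_mul' n m := by
    have hz : ∀ g ∈ N0, z * g = g * z := fun g hg => (K.z_comm (K.N_A hg)).symm
    have hne : ∀ g : G, z * g ≠ g := fun g h => K.z_ne (mul_eq_right.1 h)
    have key : ∀ g : ↥N0, (g : G) * a = a * g ∨ (g : G) * a = z * (a * g) := fun g => K.comm g g.2 a ha
    have h1 := key n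
    have h2 := key m
    have e : ((n * m : ↥N0) : G) * a = n * (m * a) := by rw [Subgroup.coe_mul, mul_assoc]
    by_cases c1 : (n : G) * a = a * n <;> by_cases c2 : (m : G) * a = a * m
    · rw [if_pos c1, if_pos c2, if_pos, one_mul]
      rw [e, c2, ← mul_assoc, c1, Subgroup.coe_mul, mul_assoc]
    · have c2' := h2.resolve_left c2
      rw [if_pos c1, if_neg c2, if_neg, one_mul]
      intro h
      rw [e, c2', ← mul_assoc, ← hz n n.2, mul_assoc, ← mul_assoc (n : G), c1, Subgroup.coe_mul, mul_assoc] at h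
      exact hne _ h
    · have c1' := h1.resolve_left c1
      rw [if_neg c1, if_pos c2, if_neg, mul_one]
      intro h
      rw [e, c2, ← mul_assoc, c1', Subgroup.coe_mul, mul_assoc, mul_assoc] at h
      exact hne _ h
    · have c1' := h1.resolve_left c1
      have c2' := h2.resolve_left c2
      rw [if_neg c1, if_neg c2, if_pos, neg_mul_neg, one_mul]
      rw [e, c2', ← mul_assoc, ← hz n n.2, mul_assoc, ← mul_assoc (n : G), c1', mul_assoc, ← mul_assoc z z, K.z_sq,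
        one_mul, Subgroup.coe_mul, mul_assoc]

theorem chi_pos (K : Kit N0 A E z s x r ψ) {a : G} (ha : a ∈ N0) {n : ↥N0} (h : (n : G) * a = a * n) :
    chi K ha n = 1 := if_pos h

theorem chi_neg (K : Kit N0 A E z s x r ψ) {a : G} (ha : a ∈ N0) {n : ↥N0} (h : (n : G) * a = z * (a * n)) :
    chi K ha n = -1 := if_neg fun h' => K.z_ne (mul_eq_right.1 (h'.symm.trans h).symm)

theorem chi_eq_one (K : Kit N0 A E z s x r ψ) {a : G} (ha : a ∈ N0) {n : ↥N0} (h : chi K ha n = 1) :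
    (n : G) * a = a * n := by
  rcases K.comm n n.2 a ha with h1 | h1
  · exact h1
  · rw [chi_neg K ha h1] at h
    exact absurd h (by decide)

/-- **`N0` is generated by `s` and a hyperbolic basis.** -/
theorem N0_gen [Finite G] (K : Kit N0 A E z s x r ψ) {a1 a2 b1 b2 : G} (ha1 : a1 ∈ N0) (ha2 : a2 ∈ N0) (hb1 : b1 ∈ N0)
    (hb2 : b2 ∈ N0) (h11 : a1 * b1 = z * (b1 * a1)) (h22 : a2 * b2 = z * (b2 * a2)) (haa : a1 * a2 = a2 * a1)
    (hbb : b1 * b2 = b2 * b1) (h12 : a1 * b2 = b2 * a1) (h21 : a2 * b1 = b1 * a2) :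
    N0 ≤ closure {s, a1, a2, b1, b2} := by
  have hz : ∀ g ∈ N0, z * g = g * z := fun g hg => (K.z_comm (K.N_A hg)).symm
  have h11' : b1 * a1 = z * (a1 * b1) := by rw [h11, ← mul_assoc, K.z_sq, one_mul]
  have h22' : b2 * a2 = z * (a2 * b2) := by rw [h22, ← mul_assoc, K.z_sq, one_mul]
  let Φ : ↥N0 →* ℤˣ × ℤˣ × ℤˣ × ℤˣ :=
    (chi K ha1).prod ((chi K ha2).prod ((chi K hb1).prod (chi K hb2)))
  have v1 : Φ ⟨b1, hb1⟩ = (-1, 1, 1, 1) := Prod.ext (chi_neg K ha1 h11') (Prod.ext (chi_pos K ha2 h21.symm)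
    (Prod.ext (chi_pos K hb1 rfl) (chi_pos K hb2 hbb)))
  have v2 : Φ ⟨b2, hb2⟩ = (1, -1, 1, 1) := Prod.ext (chi_pos K ha1 h12.symm) (Prod.ext (chi_neg K ha2 h22')
    (Prod.ext (chi_pos K hb1 hbb.symm) (chi_pos K hb2 rfl)))
  have v3 : Φ ⟨a1, ha1⟩ = (1, 1, -1, 1) := Prod.ext (chi_pos K ha1 rfl) (Prod.ext (chi_pos K ha2 haa)
    (Prod.ext (chi_neg K hb1 h11) (chi_pos K hb2 h12)))
  have v4 : Φ ⟨a2, ha2⟩ = (1, 1, 1, -1) := Prod.ext (chi_pos K ha1 haa.symm) (Prod.ext (chi_pos K ha2 rfl)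
    (Prod.ext (chi_pos K hb1 h21) (chi_neg K hb2 h22)))
  -- every value is attained on the subgroup generated by the basis
  have hval : ∀ e : ℤˣ × ℤˣ × ℤˣ × ℤˣ, ∃ w : ↥N0, (w : G) ∈ closure {s, a1, a2, b1, b2} ∧ Φ w = e := by
    have m1 : a1 ∈ closure {s, a1, a2, b1, b2} := subset_closure (by simp)
    have m2 : a2 ∈ closure {s, a1, a2, b1, b2} := subset_closure (by simp)
    have m3 : b1 ∈ closure {s, a1, a2, b1, b2} := subset_closure (by simp)
    have m4 : b2 ∈ closure {s, a1, a2, b1, b2} := subset_closure (by simp)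
    rintro ⟨e1, e2, e3, e4⟩
    obtain ⟨w1, hw1, k1⟩ : ∃ w : ↥N0, (w : G) ∈ closure {s, a1, a2, b1, b2} ∧ Φ w = (e1, 1, 1, 1) := by
      rcases Int.units_eq_one_or e1 with h | h
      · exact ⟨1, one_mem _, by rw [map_one, h]; rfl⟩
      · exact ⟨⟨b1, hb1⟩, m3, by rw [v1, h]⟩
    obtain ⟨w2, hw2, k2⟩ : ∃ w : ↥N0, (w : G) ∈ closure {s, a1, a2, b1, b2} ∧ Φ w = (1, e2, 1, 1) := by
      rcases Int.units_eq_one_or e2 with h | h
      · exact ⟨1, one_mem _, by rw [map_one, h]; rfl⟩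
      · exact ⟨⟨b2, hb2⟩, m4, by rw [v2, h]⟩
    obtain ⟨w3, hw3, k3⟩ : ∃ w : ↥N0, (w : G) ∈ closure {s, a1, a2, b1, b2} ∧ Φ w = (1, 1, e3, 1) := by
      rcases Int.units_eq_one_or e3 with h | h
      · exact ⟨1, one_mem _, by rw [map_one, h]; rfl⟩
      · exact ⟨⟨a1, ha1⟩, m1, by rw [v3, h]⟩
    obtain ⟨w4, hw4, k4⟩ : ∃ w : ↥N0, (w : G) ∈ closure {s, a1, a2, b1, b2} ∧ Φ w = (1, 1, 1, e4) := by
      rcases Int.units_eq_one_or e4 with h | h
      · exact ⟨1, one_mem _, by rw [map_one, h]; rfl⟩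
      · exact ⟨⟨a2, ha2⟩, m2, by rw [v4, h]⟩
    refine ⟨w1 * w2 * w3 * w4, mul_mem (mul_mem (mul_mem hw1 hw2) hw3) hw4, ?_⟩
    rw [map_mul, map_mul, map_mul, k1, k2, k3, k4]
    simp
  have hsurj : Function.Surjective Φ := fun e => by
    obtain ⟨w, -, hw⟩ := hval e
    exact ⟨w, hw⟩
  have hcard : Nat.card Φ.ker = 4 := by
    have h1 := Subgroup.card_mul_index Φ.ker
    rw [Subgroup.index_ker, MonoidHom.range_eq_top.2 hsurj, Subgroup.card_top, K.card] at h1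
    have h2 : Nat.card (ℤˣ × ℤˣ × ℤˣ × ℤˣ) = 16 := by
      have : Nat.card ℤˣ = 2 := by rw [Nat.card_eq_fintype_card]; rfl
      rw [Nat.card_prod, Nat.card_prod, Nat.card_prod, this]
    rw [h2] at h1
    omega
  -- the kernel is `⟨s⟩`
  have hk : ∀ n : ↥N0, Φ n = 1 → (n : G) ∈ zpowers s := by
    have hso : orderOf s = 4 := by
      have h1 : orderOf s ∣ 4 := orderOf_dvd_of_pow_eq_one K.s_four
      have h2 : ¬ orderOf s ∣ 2 := fun h => K.s_ne (by rw [← pow_two]; exact orderOf_dvd_iff_pow_eq_one.1 h)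
      obtain ⟨k, hk2, hk⟩ := (Nat.dvd_prime_pow Nat.prime_two).1 (show orderOf s ∣ 2 ^ 2 from h1)
      rcases Nat.lt_or_ge k 2 with h3 | h3
      · exact absurd (by rw [hk]; exact pow_dvd_pow 2 (show k ≤ 1 by omega)) h2
      · rw [hk, show k = 2 by omega]; norm_num
    let S : Subgroup ↥N0 := zpowers ⟨s, K.sN⟩
    have hS : S ≤ Φ.ker := by
      rw [zpowers_le, MonoidHom.mem_ker]
      exact Prod.ext (chi_pos K ha1 (K.s_cen a1 ha1).symm) (Prod.ext (chi_pos K ha2 (K.s_cen a2 ha2).symm)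
        (Prod.ext (chi_pos K hb1 (K.s_cen b1 hb1).symm) (chi_pos K hb2 (K.s_cen b2 hb2).symm)))
    have hSc : Nat.card S = 4 := by
      rw [Nat.card_zpowers, ← hso]
      exact Subgroup.orderOf_mk s K.sN
    have hSeq : S = Φ.ker := Subgroup.eq_of_le_of_card_ge hS (by rw [hcard, hSc])
    intro n hn
    have h1 : n ∈ S := by rw [hSeq]; exact hn
    obtain ⟨i, hi⟩ := h1
    exact ⟨i, by rw [← hi]; rfl⟩
  intro n hn
  obtain ⟨w, hw, hΦ⟩ := hval (Φ ⟨n, hn⟩)⁻¹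
  have h1 := hk (⟨n, hn⟩ * w) (by rw [map_mul, hΦ, mul_inv_cancel])
  have h2 : n * (w : G) ∈ closure {s, a1, a2, b1, b2} := by
    have h3 : zpowers s ≤ closure {s, a1, a2, b1, b2} := by
      rw [zpowers_le]
      exact subset_closure (by simp)
    exact h3 h1
  have h4 := mul_mem h2 (inv_mem hw)
  rwa [mul_inv_cancel_right] at h4

/-- homomorphisms of a perfect group to a commutative group -/
theorem perf_triv {H T : Type*} [Group H] [CommGroup T] (R : Subgroup H) (hR : ⁅R, R⁆ = R) (f : ↥R →* T) (g : ↥R) :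
    f g = 1 := by
  have hle : R ≤ (f.ker).map R.subtype := by
    conv_lhs => rw [← hR]
    rw [commutator_le]
    intro u hu v hv
    refine ⟨⁅(⟨u, hu⟩ : ↥R), (⟨v, hv⟩ : ↥R)⁆, ?_, rfl⟩
    rw [SetLike.mem_coe, MonoidHom.mem_ker, map_commutatorElement, commutatorElement_eq_one_iff_mul_comm]
    exact mul_comm _ _
  obtain ⟨w, hw, hwg⟩ := hle g.2
  have : w = g := Subtype.ext hwg
  rw [← this]
  exact hw

/-- **T6, lifted** -/
theorem T6l [Finite G] (K : Kit N0 A E z s x r ψ) {F V : Type*} [Field F] [AddCommGroup V] [Module F V]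
    {Gh : Subgroup (V ≃ₗ[F] V)} {π : ↥Gh →* G} (L : Lin Gh π) (f : ↥((centralizer (N0 : Set G)).comap π) →* ℤˣ)
    (hsc : ∀ g : ↥((centralizer (N0 : Set G)).comap π), IsSc ((g : ↥Gh) : V ≃ₗ[F] V) → f g = 1)
    (hs : ∀ g : ↥((centralizer (N0 : Set G)).comap π), π (g : ↥Gh) = s → f g = 1)
    (g : ↥((centralizer (N0 : Set G)).comap π)) : f g = 1 := by
  have hsurj := MonoidHom.subgroupComap_surjective_of_surjective π (centralizer (N0 : Set G)) L.surj
  have hker : (π.subgroupComap (centralizer (N0 : Set G))).ker ≤ f.ker := by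
    intro y hy
    rw [MonoidHom.mem_ker] at hy ⊢
    exact hsc y ((L.ker _).1 (congrArg Subtype.val hy))
  let f' := (π.subgroupComap (centralizer (N0 : Set G))).liftOfSurjective hsurj ⟨f, hker⟩
  have hf : ∀ y, f' (π.subgroupComap (centralizer (N0 : Set G)) y) = f y := fun y =>
    MonoidHom.liftOfRightInverse_comp_apply _ _ _ ⟨f, hker⟩ y
  rw [← hf]
  refine K.T6 f' ?_ _
  intro h
  obtain ⟨y, hy⟩ := hsurj ⟨s, h⟩
  rw [← hy, hf]
  exact hs y (congrArg Subtype.val hy)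

end group

end Cfsg.Agent.H100.C3
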