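import Cfsg.Agent.H100.C3.ArfKit

/-!
# S1920, case B, orthogonal groups, section 5: the lifted kit (helper100)

* `dich` : two elements of `Nh` commute, or anticommute on `{sh² = 1}` and their images do not commute;
* `AZ_of` : the linear data;
* `dim_four` : `dim M ≥ 4` is impossible.
-/

set_option autoImplicit false
set_option linter.unusedSectionVars false

open Subgroup
open scoped commutatorElement

namespace Cfsg.Agent.H100.C3

open QuadraticMap Cfsg.Agent.H415.C3 Cfsg.Agent.LieClassical.OrthCore Cfsg.Agent.LieClassical.OrthTrans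
open AZ (rf)

variable {G : Type*} [Group G]
variable {N0 A Ek : Subgroup G} {z s x r : G} {ψ : ↥A →* Equiv.Perm (Fin 6)}
variable {F V : Type*} [Field F] [AddCommGroup V] [Module F V] {Q : QuadraticForm F V} {π : ↥(E Q) →* G}
  {Nh Eh : Subgroup (V ≃ₗ[F] V)} {zh sh xh rh : V ≃ₗ[F] V}

theorem pi_eq {Gh : Subgroup (V ≃ₗ[F] V)} {π : ↥Gh →* G} (L : Lin Gh π) {g g' : ↥Gh} {c : F}
    (h : ∀ v, g.1 v = c • g'.1 v) : π g = π g' := by
  have h1 : π (g * g'⁻¹) = 1 := by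
    rw [L.ker]
    refine ⟨c, fun v => ?_⟩
    change g.1 (g'.1⁻¹ v) = c • v
    rw [h]
    congr 1
    exact LinearEquiv.apply_symm_apply g'.1 v
  rw [map_mul, map_inv, mul_inv_eq_one] at h1
  exact h1

/-- the situation of section 5 -/
structure Sit (Q : QuadraticForm F V) (π : ↥(E Q) →* G) (N0 A Ek : Subgroup G) (z s x r : G)
    (ψ : ↥A →* Equiv.Perm (Fin 6)) (Nh Eh : Subgroup (V ≃ₗ[F] V)) (zh sh xh rh : V ≃ₗ[F] V) : Prop where
  good : Good Q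
  two : (2 : F) ≠ 0
  kit : Kit N0 A Ek z s x r ψ
  lin : Lin (E Q) π
  lk : LKit (E Q) π N0 A Ek z s x r Nh Eh zh sh xh rh
  s_comm : ∀ n ∈ Nh, n * sh = sh * n
  c_ne : ∃ v, v ≠ 0 ∧ sh (sh v) = -v
  c_comm : ∀ n ∈ Nh, ∀ m ∈ Nh, ∀ v, sh (sh v) = -v → n (m v) = m (n v)

namespace Sit

variable (S : Sit Q π N0 A Ek z s x r ψ Nh Eh zh sh xh rh)
include S

theorem mem_E {n : V ≃ₗ[F] V} (hn : n ∈ Nh) : n ∈ E Q := ((S.lk.mem_Nh n).1 hn).1

theorem pi_mem {n : V ≃ₗ[F] V} (hn : n ∈ Nh) : π ⟨n, S.mem_E hn⟩ ∈ N0 := ((S.lk.mem_Nh n).1 hn).2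

theorem s4 (v : V) : sh (sh (sh (sh v))) = v := by
  obtain ⟨c, hc, h⟩ := S.lk.s_sq
  have hz : ∀ w, zh (zh w) = w := fun w => LinearEquiv.congr_fun S.lk.z_sq w
  have h' : ∀ w, sh (sh w) = c • zh w := h
  have h4 : ∀ w, sh (sh (sh (sh w))) = (c * c) • w := by
    intro w
    rw [h' (sh (sh w)), h' w, map_smul, hz, smul_smul]
  obtain ⟨u, hu, hu'⟩ := S.c_ne
  have h5 : sh (sh (sh (sh u))) = u := by rw [hu', map_neg, map_neg, hu', neg_neg]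
  rw [h4] at h5
  have h6 : (c * c - 1) • u = 0 := by rw [sub_smul, h5, one_smul, sub_self]
  rw [h4, sub_eq_zero.1 ((smul_eq_zero.1 h6).resolve_right hu), one_smul]

theorem s_comm' {n : V ≃ₗ[F] V} (hn : n ∈ Nh) (v : V) : sh (n v) = n (sh v) :=
  (LinearEquiv.congr_fun (S.s_comm n hn) v).symm

/-- two elements of `Nh` commute, or anticommute on `{sh² = 1}` and their images do not commute -/
theorem dich {n m : V ≃ₗ[F] V} (hn : n ∈ Nh) (hm : m ∈ Nh) :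
    ((∀ v, n (m v) = m (n v)) ∧ π ⟨n, S.mem_E hn⟩ * π ⟨m, S.mem_E hm⟩ = π ⟨m, S.mem_E hm⟩ * π ⟨n, S.mem_E hn⟩) ∨
    ((∀ v, sh (sh v) = v → n (m v) = - m (n v)) ∧
      π ⟨n, S.mem_E hn⟩ * π ⟨m, S.mem_E hm⟩ = z * (π ⟨m, S.mem_E hm⟩ * π ⟨n, S.mem_E hn⟩)) := by
  obtain ⟨u, hu, hu'⟩ := S.c_ne
  have hnu : sh (sh (n u)) = - n u := by rw [S.s_comm' hn, S.s_comm' hn, hu', map_neg]
  have hmnu : sh (sh (m (n u))) = - m (n u) := by rw [S.s_comm' hm, S.s_comm' hm, hnu, map_neg]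
  have hne : m (n u) ≠ 0 := fun h => hu (n.map_eq_zero_iff.1 (m.map_eq_zero_iff.1 h))
  obtain ⟨c, hc, h | h⟩ := S.lk.comm n hn m hm
  · left
    have h1 : ∀ v, n (m v) = c • m (n v) := h
    have h2 : m (n u) = c • m (n u) := by
      rw [← h1]; exact (S.c_comm n hn m hm u hu').symm
    have h3 : (1 - c) • m (n u) = 0 := by rw [sub_smul, ← h2, one_smul, sub_self]
    have h4 : c = 1 := (sub_eq_zero.1 ((smul_eq_zero.1 h3).resolve_right hne)).symm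
    refine ⟨fun v => by rw [h1, h4, one_smul], ?_⟩
    rw [← map_mul, ← map_mul]
    exact pi_eq S.lin (c := 1) fun v => by
      change n (m v) = (1 : F) • m (n v)
      rw [h1, h4]
  · right
    have h1 : ∀ v, n (m v) = c • zh (m (n v)) := h
    obtain ⟨c', hc', h'⟩ := S.lk.s_sq
    have h2 : ∀ w, sh (sh w) = c' • zh w := h'
    have h3 : ∀ w, zh w = c'⁻¹ • sh (sh w) := fun w => by rw [h2, smul_smul, inv_mul_cancel₀ hc', one_smul]
    have h4 : m (n u) = -(c * c'⁻¹) • m (n u) := by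
      have := h1 u
      rw [S.c_comm n hn m hm u hu', h3, hmnu, smul_neg, smul_neg, smul_smul] at this
      rw [neg_smul]
      exact this
    have h5 : (1 + c * c'⁻¹) • m (n u) = 0 := by
      rw [add_smul, one_smul]
      nth_rewrite 1 [h4]
      rw [neg_smul, neg_add_cancel]
    have h6 : c * c'⁻¹ = -1 := by
      have := (smul_eq_zero.1 h5).resolve_right hne
      linear_combination this
    refine ⟨fun v hv => ?_, ?_⟩
    · have h7 : sh (sh (m (n v))) = m (n v) := by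
        rw [S.s_comm' hm, S.s_comm' hm, S.s_comm' hn, S.s_comm' hn, hv]
      rw [h1, h3, h7, smul_smul, h6, neg_smul, one_smul]
    · have hzE : zh ∈ E Q := S.mem_E S.lk.zN
      have e2 : π ⟨n, S.mem_E hn⟩ * π ⟨m, S.mem_E hm⟩ =
          π ⟨zh, hzE⟩ * (π ⟨m, S.mem_E hm⟩ * π ⟨n, S.mem_E hn⟩) := by
        rw [← map_mul, ← map_mul, ← map_mul]
        exact pi_eq S.lin (c := c) fun v => h1 v
      exact e2.trans (congrArg (fun y => y * (π ⟨m, S.mem_E hm⟩ * π ⟨n, S.mem_E hn⟩)) (S.lk.pi_z hzE))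

theorem dich_pos {n m : V ≃ₗ[F] V} (hn : n ∈ Nh) (hm : m ∈ Nh) {v : V} (hv : v ≠ 0) (hvs : sh (sh v) = v)
    (h : n (m v) = m (n v)) :
    (∀ v, n (m v) = m (n v)) ∧ π ⟨n, S.mem_E hn⟩ * π ⟨m, S.mem_E hm⟩ = π ⟨m, S.mem_E hm⟩ * π ⟨n, S.mem_E hn⟩ := by
  rcases S.dich hn hm with h1 | ⟨h1, -⟩
  · exact h1
  · exfalso
    have h2 := h1 v hvs
    rw [h] at h2
    have h3 : (2 : F) • m (n v) = 0 := by
      rw [two_smul]
      nth_rewrite 1 [h2]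
      rw [neg_add_cancel]
    have h4 := (smul_eq_zero.1 h3).resolve_left S.two
    exact hv (n.map_eq_zero_iff.1 (m.map_eq_zero_iff.1 h4))

theorem dich_neg {n m : V ≃ₗ[F] V} (hn : n ∈ Nh) (hm : m ∈ Nh) {v : V} (hv : v ≠ 0) (_ : sh (sh v) = v)
    (h : n (m v) = - m (n v)) :
    π ⟨n, S.mem_E hn⟩ * π ⟨m, S.mem_E hm⟩ = z * (π ⟨m, S.mem_E hm⟩ * π ⟨n, S.mem_E hn⟩) := by
  rcases S.dich hn hm with ⟨h1, -⟩ | ⟨-, h1⟩
  · exfalso
    have h2 := h1 v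
    rw [h] at h2
    have h3 : (2 : F) • m (n v) = 0 := by
      rw [two_smul]
      nth_rewrite 1 [← h2]
      rw [neg_add_cancel]
    have h4 := (smul_eq_zero.1 h3).resolve_left S.two
    exact hv (n.map_eq_zero_iff.1 (m.map_eq_zero_iff.1 h4))
  · exact h1

end Sit

/-- a hyperbolic basis on `V_ε` -/
structure HypB (Nh : Subgroup (V ≃ₗ[F] V)) (sh : V ≃ₗ[F] V) (ε : F) (n1 n2 m1 m2 : V ≃ₗ[F] V) : Prop where
  eps : ε = 1 ∨ ε = -1
  n1N : n1 ∈ Nh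
  n2N : n2 ∈ Nh
  m1N : m1 ∈ Nh
  m2N : m2 ∈ Nh
  n11 : ∀ v, sh v = ε • v → n1 (n1 v) = v
  n22 : ∀ v, sh v = ε • v → n2 (n2 v) = v
  m11 : ∀ v, sh v = ε • v → m1 (m1 v) = v
  m22 : ∀ v, sh v = ε • v → m2 (m2 v) = v
  nn : ∀ v, sh v = ε • v → n1 (n2 v) = n2 (n1 v)
  mm : ∀ v, sh v = ε • v → m1 (m2 v) = m2 (m1 v)
  nm12 : ∀ v, sh v = ε • v → n1 (m2 v) = m2 (n1 v)
  nm21 : ∀ v, sh v = ε • v → n2 (m1 v) = m1 (n2 v)
  nm11 : ∀ v, sh v = ε • v → n1 (m1 v) = - m1 (n1 v)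
  nm22 : ∀ v, sh v = ε • v → n2 (m2 v) = - m2 (n2 v)

section main

variable (S : Sit Q π N0 A Ek z s x r ψ Nh Eh zh sh xh rh) {ε : F} {n1 n2 m1 m2 : V ≃ₗ[F] V}
  (B : HypB Nh sh ε n1 n2 m1 m2)
include S B

theorem eps_sq : ε * ε = 1 := by
  rcases B.eps with h | h <;> rw [h] <;> ring

theorem AZ_of : AZ Q ε sh n1 n2 m1 m2 where
  two := S.two
  eps := eps_sq S B
  sO := E_le_O (S.mem_E S.lk.sN)
  n1O := E_le_O (S.mem_E B.n1N)
  n2O := E_le_O (S.mem_E B.n2N)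
  m1O := E_le_O (S.mem_E B.m1N)
  m2O := E_le_O (S.mem_E B.m2N)
  s4 := S.s4
  sn1 := S.s_comm' B.n1N
  sn2 := S.s_comm' B.n2N
  sm1 := S.s_comm' B.m1N
  sm2 := S.s_comm' B.m2N
  n11 := B.n11
  n22 := B.n22
  m11 := B.m11
  m22 := B.m22
  nn := B.nn
  mm := B.mm
  nm12 := B.nm12
  nm21 := B.nm21
  nm11 := B.nm11
  nm22 := B.nm22

theorem sq_of {v : V} (hv : sh v = ε • v) : sh (sh v) = v := by
  rw [hv, map_smul, hv, smul_smul, eps_sq S B, one_smul]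

/-- elements of `E Q` commuting with `sh` and the basis have images commuting with `N0` -/
theorem comm_N0 [Finite G] {v0 : V} (hv0 : v0 ≠ 0) (hv0' : sh v0 = ε • v0) {g : V ≃ₗ[F] V} (hg : g ∈ E Q)
    (hs : ∀ v, g (sh v) = sh (g v)) (h1 : ∀ v, g (n1 v) = n1 (g v)) (h2 : ∀ v, g (n2 v) = n2 (g v))
    (h3 : ∀ v, g (m1 v) = m1 (g v)) (h4 : ∀ v, g (m2 v) = m2 (g v)) : ∀ n ∈ N0, π ⟨g, hg⟩ * n = n * π ⟨g, hg⟩ := by
  have hvs := sq_of S B hv0'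
  have hgen := N0_gen S.kit (S.pi_mem B.n1N) (S.pi_mem B.n2N) (S.pi_mem B.m1N) (S.pi_mem B.m2N)
    (S.dich_neg B.n1N B.m1N hv0 hvs (B.nm11 v0 hv0')) (S.dich_neg B.n2N B.m2N hv0 hvs (B.nm22 v0 hv0'))
    (S.dich_pos B.n1N B.n2N hv0 hvs (B.nn v0 hv0')).2 (S.dich_pos B.m1N B.m2N hv0 hvs (B.mm v0 hv0')).2
    (S.dich_pos B.n1N B.m2N hv0 hvs (B.nm12 v0 hv0')).2 (S.dich_pos B.n2N B.m1N hv0 hvs (B.nm21 v0 hv0')).2
  have key : ∀ {n : V ≃ₗ[F] V} (hn : n ∈ E Q), (∀ v, g (n v) = n (g v)) →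
      π ⟨n, hn⟩ * π ⟨g, hg⟩ = π ⟨g, hg⟩ * π ⟨n, hn⟩ := by
    intro n hn h
    rw [← map_mul, ← map_mul]
    exact pi_eq S.lin (c := 1) fun v => by
      change n (g v) = (1 : F) • g (n v)
      rw [one_smul, h]
  have hle : closure {s, π ⟨n1, S.mem_E B.n1N⟩, π ⟨n2, S.mem_E B.n2N⟩, π ⟨m1, S.mem_E B.m1N⟩, π ⟨m2, S.mem_E B.m2N⟩} ≤
      centralizer {π ⟨g, hg⟩} := by
    rw [closure_le]
    intro y hy
    rw [SetLike.mem_coe, mem_centralizer_singleton_iff]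
    rcases hy with rfl | rfl | rfl | rfl | rfl
    · rw [← S.lk.pi_s (S.mem_E S.lk.sN)]
      exact key _ hs
    · exact key _ h1
    · exact key _ h2
    · exact key _ h3
    · exact key _ h4
  intro n hn
  exact (mem_centralizer_singleton_iff.1 (hle (hgen hn))).symm

/-- the invariance of `M` -/
theorem rho_kit [Finite G] {v0 : V} (hv0 : v0 ≠ 0) (hv0' : sh v0 = ε • v0) {u : V} (hu : InM ε sh n1 n2 u)
    (hQ : Q u ≠ 0) : ∃ (ρ : V ≃ₗ[F] V) (hρ : ρ ∈ E Q), (∀ v, ρ v = rf Q m1 m2 u v) ∧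
      (∀ n ∈ N0, π ⟨ρ, hρ⟩ * n = n * π ⟨ρ, hρ⟩) ∧ (π ⟨ρ, hρ⟩) ^ 2 = 1 := by
  have h := AZ_of S B
  obtain ⟨ρ, hρ, hv⟩ := h.exists_rho S.good hu hQ
  refine ⟨ρ, hρ, hv, comm_N0 S B hv0 hv0' hρ ?_ ?_ ?_ ?_ ?_, ?_⟩
  · intro v; rw [hv, hv]; exact h.rf_sh hu v
  · intro v; rw [hv, hv]; exact h.rf_n1 hu v
  · intro v; rw [hv, hv]; exact h.rf_n2 hu v
  · intro v; rw [hv, hv]; exact h.rf_m1 hu v
  · intro v; rw [hv, hv]; exact h.rf_m2 hu v
  · rw [← map_pow, ← map_one π]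
    refine congrArg π (Subtype.ext (LinearEquiv.ext fun v => ?_))
    change (ρ ^ 2) v = v
    rw [pow_two]
    change ρ (ρ v) = v
    rw [hv, hv]
    exact h.rf_rf hu hQ v

/-- **`T5` for three reflections and a fixed vector** -/
theorem t5app [Finite G] {u1 u2 u3 v0 : V} (hu1 : InM ε sh n1 n2 u1) (hu2 : InM ε sh n1 n2 u2)
    (hu3 : InM ε sh n1 n2 u3) (hv : InM ε sh n1 n2 v0) (hv0 : v0 ≠ 0) (q1 : Q u1 ≠ 0) (q2 : Q u2 ≠ 0) (q3 : Q u3 ≠ 0)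
    (p12 : polar Q u1 u2 = 0) (p13 : polar Q u1 u3 = 0) (p23 : polar Q u2 u3 = 0)
    (p1 : polar Q u1 v0 = 0) (p2 : polar Q u2 v0 = 0) (p3 : polar Q u3 v0 = 0) : False := by
  have h := AZ_of S B
  have two := S.two
  obtain ⟨ρ1, hρ1, r1, c1, s1⟩ := rho_kit S B hv0 hv.1 hu1 q1
  obtain ⟨ρ2, hρ2, r2, c2, s2⟩ := rho_kit S B hv0 hv.1 hu2 q2
  obtain ⟨ρ3, hρ3, r3, c3, s3⟩ := rho_kit S B hv0 hv.1 hu3 q3
  have hcomm : ∀ {g g' : V ≃ₗ[F] V} (hg : g ∈ E Q) (hg' : g' ∈ E Q), (∀ v, g (g' v) = g' (g v)) →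
      Commute (π ⟨g, hg⟩) (π ⟨g', hg'⟩) := by
    intro g g' hg hg' hgg
    change _ * _ = _ * _
    rw [← map_mul, ← map_mul]
    exact pi_eq S.lin (c := 1) fun v => by
      change g (g' v) = (1 : F) • g' (g v)
      rw [one_smul, hgg]
  -- action on `M`
  have hm1 : ∀ v, InM ε sh n1 n2 v → polar Q u1 v = 0 → ρ1 v = v := fun v hv hp => by
    rw [r1, h.rf_M hu1 hv, hp, mul_zero, zero_smul, sub_zero]
  have hm2 : ∀ v, InM ε sh n1 n2 v → polar Q u2 v = 0 → ρ2 v = v := fun v hv hp => by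
    rw [r2, h.rf_M hu2 hv, hp, mul_zero, zero_smul, sub_zero]
  have hm3 : ∀ v, InM ε sh n1 n2 v → polar Q u3 v = 0 → ρ3 v = v := fun v hv hp => by
    rw [r3, h.rf_M hu3 hv, hp, mul_zero, zero_smul, sub_zero]
  have hself : ∀ u, InM ε sh n1 n2 u → Q u ≠ 0 → rf Q m1 m2 u u = -u := by
    intro u hu hq
    rw [h.rf_M hu hu, polar_self', ← mul_assoc, mul_comm _ (2 : F), mul_assoc, inv_mul_cancel₀ hq, mul_one, two_smul]
    abel
  have hn1 : ρ1 u1 = -u1 := by rw [r1, hself u1 hu1 q1]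
  have hn2 : ρ2 u2 = -u2 := by rw [r2, hself u2 hu2 q2]
  have hn3 : ρ3 u3 = -u3 := by rw [r3, hself u3 hu3 q3]
  -- action on `Vc`
  obtain ⟨w, hw, hw'⟩ := S.c_ne
  have hcperp : ∀ y, sh y = ε • y → polar Q y w = 0 := by
    intro y hy
    have h1 := polar_map h.sO y w
    have h2 := polar_map h.sO (sh y) (sh w)
    rw [sq_of S B hy, hw', polar_neg_right, h1] at h2
    have h3 : (2 : F) * polar Q y w = 0 := by linear_combination -h2
    exact (mul_eq_zero.1 h3).resolve_left two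
  have hcfix : ∀ u, InM ε sh n1 n2 u → rf Q m1 m2 u w = w := fun u hu =>
    h.rf_of_perp hu (hcperp _ hu.1) (hcperp _ (h.e1 hu)) (hcperp _ (h.e2 hu)) (hcperp _ (h.e3 hu))
  have hw1 : ρ1 w = w := by rw [r1, hcfix u1 hu1]
  have hw2 : ρ2 w = w := by rw [r2, hcfix u2 hu2]
  have hw3 : ρ3 w = w := by rw [r3, hcfix u3 hu3]
  -- powers
  have hpf : ∀ (g : V ≃ₗ[F] V) (v : V), g v = v → ∀ i : ℕ, (g ^ i) v = v := by
    intro g v hgv i
    induction i with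
    | zero => rfl
    | succ i ih => rw [pow_succ]; change (g ^ i) (g v) = v; rw [hgv, ih]
  have hpn : ∀ (g : V ≃ₗ[F] V) (v : V), g v = -v → ∀ i : ℕ, (g ^ i) v = (-1 : F) ^ i • v := by
    intro g v hgv i
    induction i with
    | zero => simp
    | succ i ih => rw [pow_succ]; change (g ^ i) (g v) = _; rw [hgv, map_neg, ih, pow_succ, mul_neg, mul_one, neg_smul]
  have hpar : ∀ (i : ℕ) (v : V), v ≠ 0 → (-1 : F) ^ i • v = v → 2 ∣ i := by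
    intro i v hv hi
    rcases Nat.even_or_odd i with he | ho
    · exact he.two_dvd
    · exfalso
      rw [ho.neg_one_pow, neg_smul, one_smul] at hi
      have h3 : (2 : F) • v = 0 := by
        rw [two_smul]; nth_rewrite 1 [← hi]; rw [neg_add_cancel]
      exact hv ((smul_eq_zero.1 h3).resolve_left two)
  refine T5v S.kit c1 c2 c3 (hcomm hρ1 hρ2 fun v => ?_) (hcomm hρ1 hρ3 fun v => ?_) (hcomm hρ2 hρ3 fun v => ?_)
    s1 s2 s3 ?_
  · rw [r1, r2, r2, r1]; exact h.rf_comm hu1 hu2 p12 v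
  · rw [r1, r3, r3, r1]; exact h.rf_comm hu1 hu3 p13 v
  · rw [r2, r3, r3, r2]; exact h.rf_comm hu2 hu3 p23 v
  intro i j k hijk
  -- the lift
  have hsE := S.mem_E S.lk.sN
  obtain ⟨t, ht⟩ := hijk
  have ht' : π (⟨ρ1, hρ1⟩ ^ i * ⟨ρ2, hρ2⟩ ^ j * ⟨ρ3, hρ3⟩ ^ k) = π (⟨sh, hsE⟩ ^ t) := by
    rw [map_mul, map_mul, map_pow, map_pow, map_pow, map_zpow, S.lk.pi_s hsE]
    exact ht.symm
  have h1 : π ((⟨ρ1, hρ1⟩ ^ i * ⟨ρ2, hρ2⟩ ^ j * ⟨ρ3, hρ3⟩ ^ k) * (⟨sh, hsE⟩ ^ t)⁻¹) = 1 := by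
    rw [map_mul, map_inv, ht', mul_inv_cancel]
  rw [S.lin.ker] at h1
  obtain ⟨c, hc⟩ := h1
  have hR : ∀ v, (ρ1 ^ i) ((ρ2 ^ j) ((ρ3 ^ k) v)) = c • (sh ^ t) v := by
    intro v
    have h2 := hc ((sh ^ t) v)
    change (ρ1 ^ i) ((ρ2 ^ j) ((ρ3 ^ k) ((sh ^ t)⁻¹ ((sh ^ t) v)))) = c • (sh ^ t) v at h2
    rwa [show (sh ^ t)⁻¹ ((sh ^ t) v) = v from LinearEquiv.symm_apply_apply _ v] at h2
  -- powers of `sh`
  have hs2 : ∀ v, (sh ^ t) ((sh ^ t) v) = ((sh * sh) ^ t) v := by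
    intro v
    rw [(Commute.refl sh).mul_zpow]
    rfl
  have hzfix : ∀ (g : V ≃ₗ[F] V) (v : V), g v = v → ∀ t : ℤ, (g ^ t) v = v := by
    intro g v hgv t
    have hinv : g⁻¹ v = v := by
      nth_rewrite 1 [← hgv]
      exact LinearEquiv.symm_apply_apply g v
    induction t with
    | zero => rfl
    | succ t ih => rw [zpow_add_one]; change (g ^ (t : ℤ)) (g v) = v; rw [hgv, ih]
    | pred t ih => rw [zpow_sub_one]; change (g ^ (-(t : ℤ))) (g⁻¹ v) = v; rw [hinv, ih]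
  have hzneg : ∀ (g : V ≃ₗ[F] V) (v : V), g v = -v → ∀ t : ℤ, (g ^ t) v = (-1 : F) ^ t • v := by
    intro g v hgv t
    have hinv : g⁻¹ v = -v := by
      have : g⁻¹ (g v) = v := LinearEquiv.symm_apply_apply g v
      rw [hgv, map_neg] at this
      exact neg_eq_iff_eq_neg.1 this
    have h1 : (-1 : F) ≠ 0 := neg_ne_zero.2 one_ne_zero
    induction t with
    | zero => simp
    | succ t ih =>
      rw [zpow_add_one]; change (g ^ (t : ℤ)) (g v) = _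
      rw [hgv, map_neg, ih, zpow_add_one₀ h1, mul_neg, mul_one, neg_smul]
    | pred t ih =>
      rw [zpow_sub_one]; change (g ^ (-(t : ℤ))) (g⁻¹ v) = _
      rw [hinv, map_neg, ih, zpow_sub_one₀ h1, inv_neg, inv_one, mul_neg, mul_one, neg_smul]
  have hRw : c • (sh ^ t) w = w := by rw [← hR, hpf ρ3 w hw3, hpf ρ2 w hw2, hpf ρ1 w hw1]
  have hRv : c • (sh ^ t) v0 = v0 := by
    rw [← hR, hpf ρ3 v0 (hm3 v0 hv p3), hpf ρ2 v0 (hm2 v0 hv p2), hpf ρ1 v0 (hm1 v0 hv p1)]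
  have hsw : (sh * sh) w = -w := hw'
  have hsv : (sh * sh) v0 = v0 := sq_of S B hv.1
  have e1 : (c * c * (-1 : F) ^ t) • w = w := by
    have h2 : c • (sh ^ t) (c • (sh ^ t) w) = w := by rw [hRw, hRw]
    rw [map_smul, hs2, hzneg _ _ hsw, smul_smul, smul_smul] at h2
    exact h2
  have e2 : (c * c) • v0 = v0 := by
    have h2 : c • (sh ^ t) (c • (sh ^ t) v0) = v0 := by rw [hRv, hRv]
    rw [map_smul, hs2, hzfix _ _ hsv, smul_smul] at h2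
    exact h2
  have e3 : c * c = 1 := by
    have h3 : (c * c - 1) • v0 = 0 := by rw [sub_smul, e2, one_smul, sub_self]
    exact sub_eq_zero.1 ((smul_eq_zero.1 h3).resolve_right hv0)
  have e4 : (-1 : F) ^ t = 1 := by
    rw [e3, one_mul] at e1
    have h3 : ((-1 : F) ^ t - 1) • w = 0 := by rw [sub_smul, e1, one_smul, sub_self]
    exact sub_eq_zero.1 ((smul_eq_zero.1 h3).resolve_right hw)
  -- `t` is even
  have ht2 : Even t := by
    rcases Int.even_or_odd t with he | ho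
    · exact he
    · exfalso
      rw [ho.neg_one_zpow] at e4
      apply two
      linear_combination -e4
  obtain ⟨t', ht2⟩ := ht2
  have hsM : ∀ v, InM ε sh n1 n2 v → (sh ^ t) v = v := by
    intro v hv
    rw [ht2, zpow_add]
    change (sh ^ t') ((sh ^ t') v) = v
    have : (sh ^ t') ((sh ^ t') v) = ((sh * sh) ^ t') v := by
      rw [(Commute.refl sh).mul_zpow]
      rfl
    rw [this]
    exact hzfix _ _ (sq_of S B hv.1) t'
  have hc1 : c = 1 := by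
    rw [hsM v0 hv] at hRv
    have h3 : (c - 1) • v0 = 0 := by rw [sub_smul, hRv, one_smul, sub_self]
    exact sub_eq_zero.1 ((smul_eq_zero.1 h3).resolve_right hv0)
  have hne : ∀ u, Q u ≠ 0 → u ≠ 0 := fun u hq h0 => hq (by rw [h0, map_zero])
  refine ⟨hpar i u1 (hne u1 q1) ?_, hpar j u2 (hne u2 q2) ?_, hpar k u3 (hne u3 q3) ?_⟩
  · have h2 := hR u1
    rw [hpf ρ3 u1 (hm3 u1 hu1 (by rw [polar_comm, p13])), hpf ρ2 u1 (hm2 u1 hu1 (by rw [polar_comm, p12])),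
      hpn ρ1 u1 hn1, hsM u1 hu1, hc1, one_smul] at h2
    exact h2
  · have h2 := hR u2
    rw [hpf ρ3 u2 (hm3 u2 hu2 (by rw [polar_comm, p23])), hpn ρ2 u2 hn2, map_smul,
      hpf ρ1 u2 (hm1 u2 hu2 p12), hsM u2 hu2, hc1, one_smul] at h2
    exact h2
  · have h2 := hR u3
    rw [hpn ρ3 u3 hn3, map_smul, map_smul, hpf ρ2 u3 (hm2 u3 hu3 p23), hpf ρ1 u3 (hm1 u3 hu3 p13), hsM u3 hu3, hc1,
      one_smul] at h2
    exact h2

end main

end Cfsg.Agent.H100.C3
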