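import Cfsg.Agent.H100.C3.ArfLift

/-!
# S1920, case B, orthogonal groups, section 5: the space `M` (helper100)

* `exists_basis` : `M` has an orthogonal basis of nonsingular vectors;
* `three_le` : `dim M ≥ 4` is impossible;
* `le_two` : if `dim M ≤ 2`, then `Eh` acts trivially on `M`;
* `triv_of_M` : if `Eh` acts trivially on `M`, then it acts trivially on `V_ε`.
-/

set_option autoImplicit false
set_option linter.unusedSectionVars false

open Subgroup
open scoped commutatorElement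

namespace Cfsg.Agent.H100.C3

open QuadraticMap Cfsg.Agent.H415.C3 Cfsg.Agent.LieClassical.OrthCore Cfsg.Agent.LieClassical.OrthTrans
open AZ (rf)
open Module (finrank Basis)

section lin

variable {F V : Type*} [Field F] [AddCommGroup V] [Module F V] {Q : QuadraticForm F V}

theorem polar_sh {ε : F} (he : ε * ε = 1) {g : V ≃ₗ[F] V} (hg : g ∈ O Q) {u : V} (hu : g u = ε • u) (w : V) :
    polar Q u (g w) = ε * polar Q u w := by
  have h := polar_map hg u w
  rw [hu, polar_smul_left, smul_eq_mul] at h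
  linear_combination ε * h - polar Q u (g w) * he

namespace AZ

variable {ε : F} {sh n1 n2 m1 m2 : V ≃ₗ[F] V}

theorem nondeg_M (h : AZ Q ε sh n1 n2 m1 m2) (hN : Nondeg Q) {u : V} (hu : InM ε sh n1 n2 u)
    (h0 : ∀ v, InM ε sh n1 n2 v → polar Q u v = 0) : u = 0 := by
  apply hN
  intro v
  have hs := polar_sh h.eps h.sO hu.1
  have hn1 : ∀ w, polar Q u (n1 w) = polar Q u w := fun w => by
    have := polar_map h.n1O u w
    rwa [hu.2.1] at this
  have hn2 : ∀ w, polar Q u (n2 w) = polar Q u w := fun w => by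
    have := polar_map h.n2O u w
    rwa [hu.2.2] at this
  set w1 := v + sh (sh v) with hw1
  set w2 := w1 + ε • sh w1 with hw2
  set w3 := w2 + n1 w2 with hw3
  set w4 := w3 + n2 w3 with hw4
  have f1 : sh (sh w1) = w1 := by rw [hw1, map_add, map_add, h.s4]; abel
  have hadd : ∀ a b : V, sh a = ε • a → sh b = ε • b → sh (a + b) = ε • (a + b) := fun a b x y => by
    rw [map_add, x, y, smul_add]
  have f2 : sh w2 = ε • w2 := by
    calc sh w2 = sh w1 + ε • sh (sh w1) := by rw [hw2, map_add, map_smul]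
      _ = sh w1 + ε • w1 := by rw [f1]
      _ = ε • (w1 + ε • sh w1) := by rw [smul_add ε w1, smul_smul, h.eps, one_smul, add_comm]
  have f3 : sh w3 = ε • w3 := hadd w2 (n1 w2) f2 (by rw [h.sn1, f2, map_smul])
  have f3' : n1 w3 = w3 := by rw [hw3, map_add, h.n11 _ f2]; abel
  have f4 : sh w4 = ε • w4 := hadd w3 (n2 w3) f3 (by rw [h.sn2, f3, map_smul])
  have f4' : n2 w4 = w4 := by rw [hw4, map_add, h.n22 _ f3]; abel
  have f4'' : n1 w4 = w4 := by rw [hw4, map_add, h.nn _ f3, f3']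
  have p1 : polar Q u w1 = 2 * polar Q u v := by
    rw [hw1, polar_add_right, hs, hs]; linear_combination (polar Q u v) * h.eps
  have p2 : polar Q u w2 = 2 * polar Q u w1 := by
    rw [hw2, polar_add_right, polar_smul_right, hs, smul_eq_mul]; linear_combination (polar Q u w1) * h.eps
  have p3 : polar Q u w3 = 2 * polar Q u w2 := by rw [hw3, polar_add_right, hn1]; ring
  have p4 : polar Q u w4 = 2 * polar Q u w3 := by rw [hw4, polar_add_right, hn2]; ring
  have h5 := h0 w4 ⟨f4, f4'', f4'⟩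
  rw [p4, p3, p2, p1] at h5
  have h6 := h.two
  have h7 := (mul_eq_zero.1 h5).resolve_left h6
  have h8 := (mul_eq_zero.1 h7).resolve_left h6
  have h9 := (mul_eq_zero.1 h8).resolve_left h6
  exact (mul_eq_zero.1 h9).resolve_left h6

theorem exists_basis [FiniteDimensional F V] (h : AZ Q ε sh n1 n2 m1 m2) (hN : Nondeg Q) {d : ℕ}
    (hd : finrank F ↥(MM ε sh n1 n2) = d) : ∃ b : Basis (Fin d) F ↥(MM ε sh n1 n2),
      (∀ i j, i ≠ j → polar Q (b i : V) (b j) = 0) ∧ ∀ i, Q (b i : V) ≠ 0 := by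
  subst hd
  let B : LinearMap.BilinForm F ↥(MM ε sh n1 n2) := polarBilin (Q.comp (MM ε sh n1 n2).subtype)
  have hB : LinearMap.IsSymm B := ⟨fun x y => polar_comm _ _ _⟩
  have : Invertible (2 : F) := invertibleOfNonzero h.two
  obtain ⟨b, hb⟩ := LinearMap.BilinForm.exists_orthogonal_basis hB
  have hb' : ∀ i j, i ≠ j → polar Q (b i : V) (b j) = 0 := fun i j hij => hb hij
  refine ⟨b, hb', fun i hi => ?_⟩
  apply b.ne_zero i
  apply Subtype.ext
  refine h.nondeg_M hN (b i).2 fun v hv => ?_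
  have h1 : (⟨v, hv⟩ : ↥(MM ε sh n1 n2)) = ∑ j, b.repr ⟨v, hv⟩ j • b j := (b.sum_repr _).symm
  have h2 : ∀ w : ↥(MM ε sh n1 n2), B (b i) w = polar Q (b i : V) w := fun w => rfl
  rw [← show B (b i) ⟨v, hv⟩ = polar Q (b i : V) v from rfl, h1, map_sum]
  refine Finset.sum_eq_zero fun j _ => ?_
  rw [map_smul, h2]
  by_cases hij : i = j
  · subst hij
    rw [polar_self', hi, mul_zero, smul_zero]
  · rw [hb' i j hij, smul_zero]

/-- from `M` to `V_ε` -/
theorem triv_of_M (h : AZ Q ε sh n1 n2 m1 m2) {e : V ≃ₗ[F] V} (e3 : ∀ v, e (m1 v) = m1 (e v)) (e4 : ∀ v, e (m2 v) = m2 (e v))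
    (he : ∀ v, InM ε sh n1 n2 v → e v = v) {v : V} (hv : sh v = ε • v) : e v = v := by
  -- the eigenvectors
  have k11 : ∀ w, sh w = ε • w → n1 w = w → n2 w = w → e w = w := fun w a b c => he w ⟨a, b, c⟩
  have hm1 : ∀ w, sh w = ε • w → sh (m1 w) = ε • m1 w := fun w a => by rw [h.sm1, a, map_smul]
  have hm2 : ∀ w, sh w = ε • w → sh (m2 w) = ε • m2 w := fun w a => by rw [h.sm2, a, map_smul]
  have k21 : ∀ w, sh w = ε • w → n1 w = -w → n2 w = w → e w = w := by
    intro w a b c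
    have h1 := k11 (m1 w) (hm1 w a) (by rw [h.nm11 w a, b, map_neg, neg_neg]) (by rw [h.nm21 w a, c])
    rw [e3] at h1
    exact m1.injective h1
  have k12 : ∀ w, sh w = ε • w → n1 w = w → n2 w = -w → e w = w := by
    intro w a b c
    have h1 := k11 (m2 w) (hm2 w a) (by rw [h.nm12 w a, b]) (by rw [h.nm22 w a, c, map_neg, neg_neg])
    rw [e4] at h1
    exact m2.injective h1
  have k22 : ∀ w, sh w = ε • w → n1 w = -w → n2 w = -w → e w = w := by
    intro w a b c
    have h1 := k12 (m1 w) (hm1 w a) (by rw [h.nm11 w a, b, map_neg, neg_neg]) (by rw [h.nm21 w a, c, map_neg])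
    rw [e3] at h1
    exact m1.injective h1
  have hsn1 : ∀ w, sh w = ε • w → sh (n1 w) = ε • n1 w := fun w a => by rw [h.sn1, a, map_smul]
  have hsn2 : ∀ w, sh w = ε • w → sh (n2 w) = ε • n2 w := fun w a => by rw [h.sn2, a, map_smul]
  -- the four components
  have hadd : ∀ a b : V, sh a = ε • a → sh b = ε • b → sh (a + b) = ε • (a + b) := fun a b x y => by
    rw [map_add, x, y, smul_add]
  have hsub : ∀ a b : V, sh a = ε • a → sh b = ε • b → sh (a - b) = ε • (a - b) := fun a b x y => by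
    rw [map_sub, x, y, smul_sub]
  set a1 := v + n1 v with ha1
  set a2 := v - n1 v with ha2
  have s1 : sh a1 = ε • a1 := hadd _ _ hv (hsn1 v hv)
  have s2 : sh a2 = ε • a2 := hsub _ _ hv (hsn1 v hv)
  have t1 : n1 a1 = a1 := by rw [ha1, map_add, h.n11 v hv]; abel
  have t2 : n1 a2 = -a2 := by rw [ha2, map_sub, h.n11 v hv]; abel
  have r11 := k11 (a1 + n2 a1) (hadd _ _ s1 (hsn2 _ s1)) (by rw [map_add, h.nn _ s1, t1])
    (by rw [map_add, h.n22 _ s1]; abel)
  have r12 := k12 (a1 - n2 a1) (hsub _ _ s1 (hsn2 _ s1)) (by rw [map_sub, h.nn _ s1, t1])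
    (by rw [map_sub, h.n22 _ s1]; abel)
  have r21 := k21 (a2 + n2 a2) (hadd _ _ s2 (hsn2 _ s2)) (by rw [map_add, h.nn _ s2, t2, map_neg]; abel)
    (by rw [map_add, h.n22 _ s2]; abel)
  have r22 := k22 (a2 - n2 a2) (hsub _ _ s2 (hsn2 _ s2)) (by rw [map_sub, h.nn _ s2, t2, map_neg]; abel)
    (by rw [map_sub, h.n22 _ s2]; abel)
  have hv4 : ((2 : F) * 2) • v = (a1 + n2 a1) + (a1 - n2 a1) + ((a2 + n2 a2) + (a2 - n2 a2)) := by
    rw [ha1, ha2]; module
  have h6 : ((2 : F) * 2) • e v = ((2 : F) * 2) • v := by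
    rw [← map_smul, hv4]
    rw [map_add e (a1 + n2 a1 + (a1 - n2 a1)), map_add e (a1 + n2 a1), map_add e (a2 + n2 a2), r11, r12, r21, r22]
  exact smul_right_injective V (mul_ne_zero h.two h.two) h6

end AZ

/-- plane rotations -/
theorem rot {M : Type*} [AddCommGroup M] [Module F M] (q : QuadraticForm F M) (b : Basis (Fin 2) F M)
    (two : (2 : F) ≠ 0) (h01 : polar q (b 0) (b 1) = 0) (q0 : q (b 0) ≠ 0) {g : M →ₗ[F] M} (hg : ∀ v, q (g v) = q v)
    (dg : LinearMap.det g = 1) : ∃ x y : F, g (b 0) = x • b 0 + y • b 1 ∧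
      g (b 1) = (-((q (b 0))⁻¹ * q (b 1) * y)) • b 0 + x • b 1 := by
  set x := b.repr (g (b 0)) 0 with hx
  set y := b.repr (g (b 0)) 1 with hy
  set x' := b.repr (g (b 1)) 0 with hx'
  set y' := b.repr (g (b 1)) 1 with hy'
  have e0 : g (b 0) = x • b 0 + y • b 1 := by
    have := (b.sum_repr (g (b 0))).symm
    rwa [Fin.sum_univ_two] at this
  have e1 : g (b 1) = x' • b 0 + y' • b 1 := by
    have := (b.sum_repr (g (b 1))).symm
    rwa [Fin.sum_univ_two] at this
  have L3 : x * y' - x' * y = 1 := by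
    rw [← LinearMap.det_toMatrix b g, Matrix.det_fin_two, LinearMap.toMatrix_apply, LinearMap.toMatrix_apply,
      LinearMap.toMatrix_apply, LinearMap.toMatrix_apply] at dg
    exact dg
  have L1 : x * x * q (b 0) + y * y * q (b 1) = q (b 0) := by
    have h := hg (b 0)
    rw [e0, Q_add, QuadraticMap.map_smul, QuadraticMap.map_smul, polar_smul_left, polar_smul_right,
      h01] at h
    simpa only [smul_eq_mul, mul_zero, add_zero, smul_zero] using h
  have L2 : x * x' * q (b 0) + y * y' * q (b 1) = 0 := by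
    have h : polar q (g (b 0)) (g (b 1)) = 0 := by
      rw [← h01, QuadraticMap.polar, ← map_add, hg, hg, hg, QuadraticMap.polar]
    have h10 : polar q (b 1) (b 0) = 0 := by rw [polar_comm, h01]
    rw [e0, e1, polar_add_left, polar_add_right, polar_add_right, polar_smul_left, polar_smul_left, polar_smul_left,
      polar_smul_left, polar_smul_right, polar_smul_right, polar_smul_right, polar_smul_right, h01, h10, polar_self',
      polar_self'] at h
    simp only [smul_eq_mul, mul_zero, add_zero, zero_add] at h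
    have h3 : (2 : F) * (x * x' * q (b 0) + y * y' * q (b 1)) = 0 := by linear_combination h
    exact (mul_eq_zero.1 h3).resolve_left two
  refine ⟨x, y, e0, ?_⟩
  have hx1 : q (b 0) * x' = -(q (b 1) * y) := by
    linear_combination -x' * L1 + x * L2 - q (b 1) * y * L3
  have hy1 : q (b 0) * y' = q (b 0) * x := by
    linear_combination -y' * L1 + y * L2 + q (b 0) * x * L3
  have hx2 : x' = -((q (b 0))⁻¹ * q (b 1) * y) := by
    field_simp
    linear_combination hx1
  rw [e1, hx2, mul_left_cancel₀ q0 hy1]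

theorem comm_two {M : Type*} [AddCommGroup M] [Module F M] (q : QuadraticForm F M) (b : Basis (Fin 2) F M)
    (two : (2 : F) ≠ 0) (h01 : polar q (b 0) (b 1) = 0) (q0 : q (b 0) ≠ 0) {g h : M →ₗ[F] M}
    (hg : ∀ v, q (g v) = q v) (hh : ∀ v, q (h v) = q v) (dg : LinearMap.det g = 1) (dh : LinearMap.det h = 1) (v : M) :
    g (h v) = h (g v) := by
  obtain ⟨x, y, g0, g1⟩ := rot q b two h01 q0 hg dg
  obtain ⟨x', y', h0, h1⟩ := rot q b two h01 q0 hh dh
  have key : g.comp h = h.comp g := by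
    refine b.ext fun i => ?_
    fin_cases i
    · change g (h (b 0)) = h (g (b 0))
      simp only [g0, g1, h0, h1, map_add, map_smul]
      module
    · change g (h (b 1)) = h (g (b 1))
      simp only [g0, g1, h0, h1, map_add, map_smul]
      module
  exact LinearMap.congr_fun key v

/-- a perfect group acting commutatively acts trivially -/
theorem comm_triv {Eh : Subgroup (V ≃ₗ[F] V)} (hE : ⁅Eh, Eh⁆ = Eh) (M : Submodule F V)
    (hM : ∀ e ∈ Eh, ∀ v ∈ M, e v ∈ M) (hc : ∀ a ∈ Eh, ∀ b ∈ Eh, ∀ v ∈ M, a (b v) = b (a v)) :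
    ∀ e ∈ Eh, ∀ v ∈ M, e v = v := by
  let K1 : Subgroup (V ≃ₗ[F] V) :=
    { carrier := {g | ∀ v ∈ M, g v = v}
      mul_mem' := fun {a b} ha hb v hv => by change a (b v) = v; rw [hb v hv, ha v hv]
      one_mem' := fun v _ => rfl
      inv_mem' := fun {a} ha v hv => by
        change a⁻¹ v = v
        nth_rewrite 1 [← ha v hv]
        exact LinearEquiv.symm_apply_apply a v }
  have hle : ⁅Eh, Eh⁆ ≤ K1 := by
    rw [commutator_le]
    intro a ha b hb v hv
    change a (b (a⁻¹ (b⁻¹ v))) = v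
    have hw : a⁻¹ (b⁻¹ v) ∈ M := hM _ (inv_mem ha) _ (hM _ (inv_mem hb) _ hv)
    rw [hc a ha b hb _ hw]
    have h1 : a (a⁻¹ (b⁻¹ v)) = b⁻¹ v := LinearEquiv.apply_symm_apply a _
    rw [h1]
    exact LinearEquiv.apply_symm_apply b v
  rw [hE] at hle
  exact fun e he v hv => hle he v hv

end lin

variable {G : Type*} [Group G]
variable {N0 A Ek : Subgroup G} {z s x r : G} {ψ : ↥A →* Equiv.Perm (Fin 6)}
variable {F V : Type*} [Field F] [AddCommGroup V] [Module F V] {Q : QuadraticForm F V} {π : ↥(E Q) →* G}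
  {Nh Eh : Subgroup (V ≃ₗ[F] V)} {zh sh xh rh : V ≃ₗ[F] V}

section main

variable (S : Sit Q π N0 A Ek z s x r ψ Nh Eh zh sh xh rh) {ε : F} {n1 n2 m1 m2 : V ≃ₗ[F] V}
  (B : HypB Nh sh ε n1 n2 m1 m2)
include S B

/-- elements commuting with `Nh` preserve `M` -/
theorem inv_M {g : V ≃ₗ[F] V} (hg : ∀ n ∈ Nh, g * n = n * g) : ∀ v ∈ MM ε sh n1 n2, g v ∈ MM ε sh n1 n2 := by
  intro v hv
  have h : ∀ n ∈ Nh, ∀ w, n (g w) = g (n w) := fun n hn w => (LinearEquiv.congr_fun (hg n hn) w).symm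
  exact ⟨by rw [h sh S.lk.sN, hv.1, map_smul], by rw [h n1 B.n1N, hv.2.1], by rw [h n2 B.n2N, hv.2.2]⟩

/-- restriction to `M` -/
def resM (H : Subgroup (V ≃ₗ[F] V)) (hH : ∀ g ∈ H, ∀ n ∈ Nh, g * n = n * g) :
    ↥H →* (↥(MM ε sh n1 n2) →ₗ[F] ↥(MM ε sh n1 n2)) where
  toFun g := (g : V ≃ₗ[F] V).toLinearMap.restrict (inv_M S B (hH g g.2))
  map_one' := by ext v; rfl
  map_mul' g h := by ext v; rfl

theorem resM_apply (H : Subgroup (V ≃ₗ[F] V)) (hH : ∀ g ∈ H, ∀ n ∈ Nh, g * n = n * g) (g : ↥H)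
    (v : ↥(MM ε sh n1 n2)) : (resM S B H hH g v : V) = (g : V ≃ₗ[F] V) v := rfl

theorem det_resM (g : ↥Eh) : LinearMap.det (resM S B Eh S.lk.Eh_comm g) = 1 := by
  have h := perf_triv Eh S.lk.Eh_perf (MonoidHom.toHomUnits ((LinearMap.det (M := ↥(MM ε sh n1 n2))).comp
    (resM S B Eh S.lk.Eh_comm))) g
  have h2 := congrArg (fun y : Fˣ => (y : F)) h
  exact h2

theorem le_two [FiniteDimensional F V] (hd : finrank F ↥(MM ε sh n1 n2) ≤ 2) : ∀ e ∈ Eh, ∀ v ∈ MM ε sh n1 n2, e v = v := by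
  have hA := AZ_of S B
  refine comm_triv S.lk.Eh_perf (MM ε sh n1 n2) (fun e he => inv_M S B (S.lk.Eh_comm e he)) ?_
  intro a ha c hc v hv
  have hQE : ∀ e ∈ Eh, ∀ w, Q (e w) = Q w := fun e he w => mem_O.1 (E_le_O (S.lk.Eh_le he)) w
  obtain ⟨d, hd'⟩ : ∃ d, finrank F ↥(MM ε sh n1 n2) = d := ⟨_, rfl⟩
  have key : ∀ (g h : ↥(MM ε sh n1 n2) →ₗ[F] ↥(MM ε sh n1 n2)), (∀ w, Q (g w : V) = Q (w : V)) →
      (∀ w, Q (h w : V) = Q (w : V)) → LinearMap.det g = 1 → LinearMap.det h = 1 → ∀ w, g (h w) = h (g w) := by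
    obtain ⟨b, hb, hb0⟩ := hA.exists_basis S.good.nondeg hd'
    intro g h hg hh dg dh w
    rcases (show d = 0 ∨ d = 1 ∨ d = 2 by omega) with rfl | rfl | rfl
    · have : Subsingleton ↥(MM ε sh n1 n2) := Module.finrank_zero_iff.1 hd'
      exact Subsingleton.elim _ _
    · have h1 : ∀ f : ↥(MM ε sh n1 n2) →ₗ[F] ↥(MM ε sh n1 n2), ∃ c : F, ∀ w, f w = c • w := by
        intro f
        refine ⟨b.repr (f (b 0)) 0, fun w => ?_⟩
        have hw : ∀ y : ↥(MM ε sh n1 n2), y = b.repr y 0 • b 0 := fun y => by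
          have := (b.sum_repr y).symm
          rwa [Fin.sum_univ_one] at this
        conv_lhs => rw [hw w, map_smul, hw (f (b 0))]
        rw [smul_comm, ← hw w]
      obtain ⟨c1, h1'⟩ := h1 g
      obtain ⟨c2, h2'⟩ := h1 h
      rw [h1', h2', h2', h1', smul_comm]
    · exact comm_two (Q.comp (MM ε sh n1 n2).subtype) b S.two (hb 0 1 (by decide)) (hb0 0) hg hh dg dh w
  have h1 := key (resM S B Eh S.lk.Eh_comm ⟨a, ha⟩) (resM S B Eh S.lk.Eh_comm ⟨c, hc⟩)
    (fun w => hQE a ha w) (fun w => hQE c hc w) (det_resM S B _) (det_resM S B _) ⟨v, hv⟩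
  exact congrArg Subtype.val h1

theorem le_three [Finite G] [FiniteDimensional F V] (hd : 4 ≤ finrank F ↥(MM ε sh n1 n2)) : False := by
  have hA := AZ_of S B
  obtain ⟨d, hd'⟩ : ∃ d, finrank F ↥(MM ε sh n1 n2) = d := ⟨_, rfl⟩
  obtain ⟨b, hb, hb0⟩ := hA.exists_basis S.good.nondeg hd'
  have hne : ∀ i j : ℕ, ∀ (hi : i < 4) (hj : j < 4), i ≠ j →
      (⟨i, by omega⟩ : Fin d) ≠ ⟨j, by omega⟩ := fun i j hi hj hij h => hij (congrArg Fin.val h)
  refine t5app S B (u1 := b ⟨0, by omega⟩) (u2 := b ⟨1, by omega⟩) (u3 := b ⟨2, by omega⟩) (v0 := b ⟨3, by omega⟩)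
    (b _).2 (b _).2 (b _).2 (b _).2 (fun h => b.ne_zero _ (Subtype.ext h)) (hb0 _) (hb0 _) (hb0 _)
    (hb _ _ (hne 0 1 (by norm_num) (by norm_num) (by norm_num))) (hb _ _ (hne 0 2 (by norm_num) (by norm_num) (by norm_num)))
    (hb _ _ (hne 1 2 (by norm_num) (by norm_num) (by norm_num))) (hb _ _ (hne 0 3 (by norm_num) (by norm_num) (by norm_num)))
    (hb _ _ (hne 1 3 (by norm_num) (by norm_num) (by norm_num))) (hb _ _ (hne 2 3 (by norm_num) (by norm_num) (by norm_num)))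

end main

end Cfsg.Agent.H100.C3
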