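import Cfsg.Agent.H100.C3.ArfM
import Cfsg.Agent.ClassicalGeometry.SpinorSign

/-!
# S1920, case B, orthogonal groups, section 5: `dim M = 3` (helper100)

The spinor sign of the action of `C_G(N0)` on `M`, normalised so that `-1` has sign `1`, contradicts `T6`.
-/

set_option autoImplicit false
set_option linter.unusedSectionVars false

open Subgroup
open scoped commutatorElement

namespace Cfsg.Agent.H100.C3

open QuadraticMap Cfsg.Agent.H415.C3 Cfsg.Agent.LieClassical.OrthCore Cfsg.Agent.LieClassical.OrthTrans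
open AZ (rf)
open Module (finrank Basis)
open scoped Matrix

variable {G : Type*} [Group G]
variable {N0 A Ek : Subgroup G} {z s x r : G} {ψ : ↥A →* Equiv.Perm (Fin 6)}
variable {F V : Type*} [Field F] [AddCommGroup V] [Module F V] {Q : QuadraticForm F V} {π : ↥(E Q) →* G}
  {Nh Eh : Subgroup (V ≃ₗ[F] V)} {zh sh xh rh : V ≃ₗ[F] V}

theorem isSquare_iff [Finite F] (h2 : (2 : F) ≠ 0) {ν a : F} (hν : ¬ IsSquare ν) (ha : a ≠ 0) :
    IsSquare (ν * a) ↔ ¬ IsSquare a := by
  classical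
  have := Fintype.ofFinite F
  have hν0 : ν ≠ 0 := fun h => hν (by rw [h]; exact IsSquare.zero)
  constructor
  · intro h1 h3
    apply hν
    have h4 := h1.mul h3.inv
    rwa [mul_assoc, mul_inv_cancel₀ ha, mul_one] at h4
  · intro h1
    rw [← quadraticChar_one_iff_isSquare (mul_ne_zero hν0 ha), map_mul, quadraticChar_neg_one_iff_not_isSquare.2 hν,
      quadraticChar_neg_one_iff_not_isSquare.2 h1]
    rfl

theorem exists_rep [Finite F] (h2 : (2 : F) ≠ 0) {a b : F} (ha : a ≠ 0) (hb : b ≠ 0) (κ : F) :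
    ∃ x y : F, x * x * a + y * y * b = κ := by
  classical
  have := Fintype.ofFinite F
  have hodd := FiniteField.odd_card_of_char_ne_two (F := F) (fun h => h2 (by
    have := ringChar.Nat.cast_ringChar (R := F)
    rw [h] at this
    exact_mod_cast this))
  obtain ⟨x, y, h⟩ := FiniteField.exists_root_sum_quadratic (R := F) (f := Polynomial.C a * Polynomial.X ^ 2)
    (g := Polynomial.C b * Polynomial.X ^ 2 - Polynomial.C κ) (Polynomial.degree_C_mul_X_pow 2 ha)
    (by
      rw [Polynomial.degree_sub_C]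
      · exact Polynomial.degree_C_mul_X_pow 2 hb
      · rw [Polynomial.degree_C_mul_X_pow 2 hb]; norm_num) hodd
  refine ⟨x, y, ?_⟩
  simp only [Polynomial.eval_sub, Polynomial.eval_mul, Polynomial.eval_pow, Polynomial.eval_X, Polynomial.eval_C] at h
  linear_combination h

section main

variable (S : Sit Q π N0 A Ek z s x r ψ Nh Eh zh sh xh rh) {ε : F} {n1 n2 m1 m2 : V ≃ₗ[F] V}
  (B : HypB Nh sh ε n1 n2 m1 m2)
include S

/-- elements of the preimage of `C_G(N0)` commute with `Nh` up to sign -/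
theorem sign_comm {v0 : V} (hv0 : Q v0 ≠ 0) {y : V ≃ₗ[F] V} (hy : y ∈ E Q)
    (hc : ∀ n ∈ N0, n * π ⟨y, hy⟩ = π ⟨y, hy⟩ * n) {n : V ≃ₗ[F] V} (hn : n ∈ Nh) :
    ∃ c : F, (c = 1 ∨ c = -1) ∧ ∀ v, y (n v) = c • n (y v) := by
  have h1 : π (⟨y, hy⟩ * ⟨n, S.mem_E hn⟩ * (⟨n, S.mem_E hn⟩ * ⟨y, hy⟩)⁻¹) = 1 := by
    rw [map_mul, map_inv, map_mul, map_mul, hc _ (S.pi_mem hn), mul_inv_cancel]
  rw [S.lin.ker] at h1
  obtain ⟨c, hc'⟩ := h1
  have h2 : ∀ v, y (n v) = c • n (y v) := by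
    intro v
    have h3 := hc' (n (y v))
    change y (n ((n * y)⁻¹ (n (y v)))) = c • n (y v) at h3
    rwa [show (n * y)⁻¹ (n (y v)) = v from LinearEquiv.symm_apply_apply (n * y) v] at h3
  refine ⟨c, ?_, h2⟩
  have hQ : ∀ {g : V ≃ₗ[F] V}, g ∈ E Q → ∀ w, Q (g w) = Q w := fun hg w => mem_O.1 (E_le_O hg) w
  have h3 := congrArg Q (h2 v0)
  rw [hQ hy, hQ (S.mem_E hn), QuadraticMap.map_smul, hQ (S.mem_E hn), hQ hy, smul_eq_mul] at h3
  have h4 : (c - 1) * (c + 1) = 0 := by
    have h5 : (c * c - 1) * Q v0 = 0 := by linear_combination -h3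
    have h6 := (mul_eq_zero.1 h5).resolve_right hv0
    linear_combination h6
  rcases mul_eq_zero.1 h4 with h5 | h5
  · exact Or.inl (sub_eq_zero.1 h5)
  · exact Or.inr (eq_neg_of_add_eq_zero_left h5)

theorem mem_cen {y : ↥(E Q)} (hy : y ∈ (centralizer (N0 : Set G)).comap π) : ∀ n ∈ N0, n * π y = π y * n :=
  fun n hn => mem_centralizer_iff.1 (mem_comap.1 hy) n hn

open Classical in
/-- the sign of the commutator with `n` -/
noncomputable def fn {v0 : V} (hv0 : Q v0 ≠ 0) {n : V ≃ₗ[F] V} (hn : n ∈ Nh) :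
    ↥((centralizer (N0 : Set G)).comap π) →* ℤˣ where
  toFun y := if ∀ v, ((y : ↥(E Q)) : V ≃ₗ[F] V) (n v) = n (((y : ↥(E Q)) : V ≃ₗ[F] V) v) then 1 else -1
  map_one' := if_pos fun v => rfl
  map_mul' y y' := by
    obtain ⟨c, hc, h⟩ := sign_comm S hv0 y.1.2 (mem_cen S y.2) hn
    obtain ⟨c', hc', h'⟩ := sign_comm S hv0 y'.1.2 (mem_cen S y'.2) hn
    have hv00 : v0 ≠ 0 := by rintro rfl; exact hv0 (map_zero Q)
    have h2 := S.two
    have key : ∀ (g : V ≃ₗ[F] V) (c : F), (c = 1 ∨ c = -1) → (∀ v, g (n v) = c • n (g v)) →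
        (if ∀ v, g (n v) = n (g v) then (1 : ℤˣ) else -1) = if c = 1 then 1 else -1 := by
      intro g c hc h
      rcases hc with rfl | rfl
      · rw [if_pos rfl, if_pos]
        intro v; rw [h, one_smul]
      · rw [if_neg (show ¬ (-1 : F) = 1 from fun h3 => h2 (by linear_combination -h3)), if_neg]
        intro h3
        have h4 := h3 v0
        rw [h, neg_smul, one_smul] at h4
        have h5 : (2 : F) • n (g v0) = 0 := by
          rw [two_smul]; nth_rewrite 1 [← h4]; rw [neg_add_cancel]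
        exact hv00 (g.map_eq_zero_iff.1 (n.map_eq_zero_iff.1 ((smul_eq_zero.1 h5).resolve_left h2)))
    have hyy : ∀ v, ((y : ↥(E Q)) : V ≃ₗ[F] V) (((y' : ↥(E Q)) : V ≃ₗ[F] V) (n v)) =
        (c * c') • n (((y : ↥(E Q)) : V ≃ₗ[F] V) (((y' : ↥(E Q)) : V ≃ₗ[F] V) v)) := by
      intro v
      rw [h', map_smul, h, smul_smul, mul_comm]
    have hcc : c * c' = 1 ∨ c * c' = -1 := by
      rcases hc with rfl | rfl <;> rcases hc' with rfl | rfl <;> simp
    refine (key _ (c * c') hcc hyy).trans ?_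
    rw [key _ c hc h, key _ c' hc' h']
    have hne : ¬ (-1 : F) = 1 := fun h3 => h2 (by linear_combination -h3)
    rcases hc with rfl | rfl <;> rcases hc' with rfl | rfl <;> simp [hne]

/-- the elements over `s` -/
theorem over_s {y : ↥(E Q)} (hy : π y = s) : ∃ c : F, ∀ v, (y : V ≃ₗ[F] V) v = c • sh v := by
  have hsE := S.mem_E S.lk.sN
  have h1 : π (y * ⟨sh, hsE⟩⁻¹) = 1 := by
    rw [map_mul, map_inv, S.lk.pi_s hsE, hy, mul_inv_cancel]
  rw [S.lin.ker] at h1
  obtain ⟨c, hc⟩ := h1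
  refine ⟨c, fun v => ?_⟩
  have h3 := hc (sh v)
  change (y : V ≃ₗ[F] V) (sh⁻¹ (sh v)) = c • sh v at h3
  rwa [show sh⁻¹ (sh v) = v from LinearEquiv.symm_apply_apply sh v] at h3

/-- the preimage of `C_G(N0)` commutes with `Nh` -/
theorem comm_of_cen [Finite G] {v0 : V} (hv0 : Q v0 ≠ 0) {y : ↥(E Q)} (hy : y ∈ (centralizer (N0 : Set G)).comap π)
    {n : V ≃ₗ[F] V} (hn : n ∈ Nh) : (y : V ≃ₗ[F] V) * n = n * y := by
  have h := T6l S.kit S.lin (fn S hv0 hn) ?_ ?_ ⟨y, hy⟩
  · have h1 : ∀ v, (y : V ≃ₗ[F] V) (n v) = n ((y : V ≃ₗ[F] V) v) := by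
      by_contra hcon
      have h3 : fn S hv0 hn ⟨y, hy⟩ = -1 := if_neg hcon
      rw [h3] at h
      exact absurd h (by decide)
    exact LinearEquiv.ext h1
  · rintro g ⟨c, hc⟩
    refine if_pos fun v => ?_
    rw [hc, hc, map_smul]
  · intro g hg
    obtain ⟨c, hc⟩ := over_s S hg
    refine if_pos fun v => ?_
    rw [hc, hc, map_smul, S.s_comm' hn]

include B

/-- the action on `M` -/
noncomputable def resC [Finite G] {v0 : V} (hv0 : Q v0 ≠ 0) :
    ↥((centralizer (N0 : Set G)).comap π) →* (↥(MM ε sh n1 n2) →ₗ[F] ↥(MM ε sh n1 n2)) where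
  toFun y := ((y : ↥(E Q)) : V ≃ₗ[F] V).toLinearMap.restrict
    (inv_M S B (fun _ hn => comm_of_cen S hv0 y.2 hn))
  map_one' := by ext v; rfl
  map_mul' g h := by ext v; rfl

theorem resC_apply [Finite G] {v0 : V} (hv0 : Q v0 ≠ 0) (y : ↥((centralizer (N0 : Set G)).comap π))
    (v : ↥(MM ε sh n1 n2)) : (resC S B hv0 y v : V) = ((y : ↥(E Q)) : V ≃ₗ[F] V) v := rfl

end main

section matrices

/-- an endomorphism as a matrix -/
noncomputable def mat {M : Type*} [AddCommGroup M] [Module F M] (b : Basis (Fin 3) F M) :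
    (M →ₗ[F] M) →* Matrix (Fin 3) (Fin 3) F where
  toFun f := LinearMap.toMatrix b b f
  map_one' := LinearMap.toMatrix_one b
  map_mul' f g := LinearMap.toMatrix_mul b f g

/-- the form in coordinates -/
noncomputable def qf {M : Type*} [AddCommGroup M] [Module F M] (q : QuadraticForm F M) (b : Basis (Fin 3) F M) :
    QuadraticForm F (Fin 3 → F) := q.comp (b.equivFun.symm : (Fin 3 → F) →ₗ[F] M)

theorem qf_apply {M : Type*} [AddCommGroup M] [Module F M] (q : QuadraticForm F M) (b : Basis (Fin 3) F M)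
    (m : M) : qf q b (b.equivFun m) = q m := by
  change q (b.equivFun.symm (b.equivFun m)) = q m
  rw [LinearEquiv.symm_apply_apply]

theorem mat_mulVec {M : Type*} [AddCommGroup M] [Module F M] (b : Basis (Fin 3) F M) (f : M →ₗ[F] M) (m : M) :
    mat b f *ᵥ b.equivFun m = b.equivFun (f m) := LinearMap.toMatrix_mulVec_repr b b f m

/-- a group of isometries in coordinates -/
noncomputable def iso {M : Type*} [AddCommGroup M] [Module F M] (q : QuadraticForm F M) (b : Basis (Fin 3) F M)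
    {H : Type*} [Group H] (f : H →* (M →ₗ[F] M)) (hf : ∀ h m, q (f h m) = q m) :
    H →* ↥(Cfsg.isometryGroup F (⇑(qf q b))) :=
  (((mat b).comp f).toHomUnits).codRestrict _ fun h => by
    rw [Cfsg.Agent.ClassicalGeometry.Reflection.mem_isometryGroup_iff]
    intro v
    obtain ⟨m, rfl⟩ := b.equivFun.surjective v
    change qf q b (mat b (f h) *ᵥ b.equivFun m) = _
    rw [mat_mulVec, qf_apply, qf_apply, hf]

theorem iso_eq {M : Type*} [AddCommGroup M] [Module F M] (q : QuadraticForm F M) (b : Basis (Fin 3) F M)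
    {H : Type*} [Group H] (f : H →* (M →ₗ[F] M)) (hf : ∀ h m, q (f h m) = q m) {h h' : H} (he : f h = f h') :
    iso q b f hf h = iso q b f hf h' := by
  apply Subtype.ext
  apply Units.ext
  change mat b (f h) = mat b (f h')
  rw [he]

theorem iso_refl {M : Type*} [AddCommGroup M] [Module F M] (q : QuadraticForm F M) (b : Basis (Fin 3) F M)
    {H : Type*} [Group H] (f : H →* (M →ₗ[F] M)) (hf : ∀ h m, q (f h m) = q m) {h : H} {u : M} (hu : q u ≠ 0)
    (he : ∀ m, f h m = m - ((q u)⁻¹ * polar q u m) • u) :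
    iso q b f hf h = Cfsg.Agent.ClassicalGeometry.Reflection.reflIso (qf q b) (b.equivFun u)
      (by rw [qf_apply]; exact hu) := by
  apply Subtype.ext
  apply Units.ext
  change mat b (f h) = Cfsg.reflectionMatrix (⇑(qf q b)) (b.equivFun u)
  refine Matrix.toLin'.injective (LinearMap.ext fun v => ?_)
  rw [Matrix.toLin'_apply, Matrix.toLin'_apply]
  obtain ⟨m, rfl⟩ := b.equivFun.surjective v
  have hp : polar (qf q b) (b.equivFun u) (b.equivFun m) = polar q u m := by
    rw [QuadraticMap.polar, QuadraticMap.polar, ← map_add, qf_apply, qf_apply, qf_apply]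
  rw [mat_mulVec, Cfsg.Agent.ClassicalGeometry.Reflection.reflectionMatrix_mulVec, hp, qf_apply, he, map_sub, map_smul]

end matrices

section final

open Cfsg.Agent.ClassicalGeometry.SpinorSign

variable (S : Sit Q π N0 A Ek z s x r ψ Nh Eh zh sh xh rh) {ε : F} {n1 n2 m1 m2 : V ≃ₗ[F] V}
  (B : HypB Nh sh ε n1 n2 m1 m2)
include S B

theorem ne_three [Finite G] [Finite F] [FiniteDimensional F V] : finrank F ↥(MM ε sh n1 n2) ≠ 3 := by
  classical
  intro hd
  have hA := AZ_of S B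
  obtain ⟨b, hb, hb0⟩ := hA.exists_basis S.good.nondeg hd
  have hv0 := hb0 0
  have hne : ∀ i, (b i : V) ≠ 0 := fun i h => b.ne_zero i (Subtype.ext h)
  -- the action on `M`
  let f := resC S B hv0
  let q : QuadraticForm F ↥(MM ε sh n1 n2) := Q.comp (MM ε sh n1 n2).subtype
  have hf : ∀ h m, q (f h m) = q m := fun h m => mem_O.1 (E_le_O h.1.2) m
  let θ := iso q b f hf
  -- reflections
  have href : ∀ u : ↥(MM ε sh n1 n2), q u ≠ 0 → ∃ y : ↥((centralizer (N0 : Set G)).comap π),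
      ∀ m, f y m = m - ((q u)⁻¹ * polar q u m) • u := by
    intro u hu
    obtain ⟨ρ, hρ, hv, hcm, -⟩ := rho_kit S B (hne 0) (b 0).2.1 u.2 hu
    refine ⟨⟨⟨ρ, hρ⟩, mem_comap.2 (mem_centralizer_iff.2 fun n hn => (hcm n hn).symm)⟩, fun m => ?_⟩
    apply Subtype.ext
    change ρ m = m - ((Q u)⁻¹ * polar Q u m) • (u : V)
    rw [hv, hA.rf_M u.2 m.2]
  have hsign : ∀ (κ : F), κ ≠ 0 → ∀ u : ↥(MM ε sh n1 n2), q u ≠ 0 → ∀ y, (∀ m, f y m = m - ((q u)⁻¹ * polar q u m) • u) →
      spinorSign (⇑(qf q b)) κ (θ y) = if IsSquare (κ * q u) then -1 else 1 := by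
    intro κ hκ u hu y hy
    have h1 : θ y = _ := iso_refl q b f hf hu hy
    rw [h1, spinorSign_reflIso S.two (qf q b) hκ, qf_apply]
  have hq0 : ∀ i, q (b i) ≠ 0 := hb0
  choose Y hY using fun i => href (b i) (hq0 i)
  -- `-1`
  have hneg : ∀ m, f (Y 0 * Y 1 * Y 2) m = -m := by
    have hYj : ∀ i j, f (Y i) (b j) = if i = j then - b j else b j := by
      intro i j
      rw [hY]
      split_ifs with hij
      · subst hij
        rw [polar_self', ← mul_assoc, mul_comm _ (2 : F), mul_assoc, inv_mul_cancel₀ (hq0 i), mul_one, two_smul]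
        abel
      · have : polar q (b i) (b j) = 0 := hb i j hij
        rw [this, mul_zero, zero_smul, sub_zero]
    have h1 : f (Y 0 * Y 1 * Y 2) = -1 := by
      refine b.ext fun i => ?_
      rw [map_mul, map_mul]
      change f (Y 0) (f (Y 1) (f (Y 2) (b i))) = -(b i)
      fin_cases i <;> simp [hYj]
    intro m
    rw [h1]
    rfl
  -- the choice of `κ`
  obtain ⟨κ, hκ, hκ1⟩ : ∃ κ : F, κ ≠ 0 ∧ spinorSign (⇑(qf q b)) κ (θ (Y 0 * Y 1 * Y 2)) = 1 := by
    have h3 : ∀ κ : F, κ ≠ 0 → spinorSign (⇑(qf q b)) κ (θ (Y 0 * Y 1 * Y 2)) =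
        (if IsSquare (κ * q (b 0)) then -1 else 1) * (if IsSquare (κ * q (b 1)) then -1 else 1) *
        (if IsSquare (κ * q (b 2)) then -1 else 1) := by
      intro κ hκ
      rw [map_mul, map_mul, map_mul, map_mul, hsign κ hκ (b 0) (hq0 0) _ (hY 0), hsign κ hκ (b 1) (hq0 1) _ (hY 1),
        hsign κ hκ (b 2) (hq0 2) _ (hY 2)]
    by_cases h4 : spinorSign (⇑(qf q b)) (1 : F) (θ (Y 0 * Y 1 * Y 2)) = 1
    · exact ⟨1, one_ne_zero, h4⟩
    · obtain ⟨ν, hν⟩ := FiniteField.exists_nonsquare (F := F) (fun h => S.two (by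
        have := ringChar.Nat.cast_ringChar (R := F)
        rw [h] at this
        exact_mod_cast this))
      have hν0 : ν ≠ 0 := fun h => hν (by rw [h]; exact IsSquare.zero)
      refine ⟨ν, hν0, ?_⟩
      rw [h3 1 one_ne_zero] at h4
      rw [h3 ν hν0]
      simp only [one_mul] at h4
      simp only [isSquare_iff S.two hν (hq0 0), isSquare_iff S.two hν (hq0 1), isSquare_iff S.two hν (hq0 2)]
      by_cases c0 : IsSquare (q (b 0)) <;> by_cases c1 : IsSquare (q (b 1)) <;> by_cases c2 : IsSquare (q (b 2)) <;>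
        simp [c0, c1, c2] at h4 ⊢
  -- elements acting as scalars
  have hsc : ∀ y, (∃ c : F, ∀ m, f y m = c • m) → spinorSign (⇑(qf q b)) κ (θ y) = 1 := by
    rintro y ⟨c, hc⟩
    have h1 := hf y (b 0)
    rw [hc, QuadraticMap.map_smul, smul_eq_mul] at h1
    have h4 : (c - 1) * (c + 1) = 0 := by
      have h5 : (c * c - 1) * q (b 0) = 0 := by linear_combination h1
      have h6 := (mul_eq_zero.1 h5).resolve_right (hq0 0)
      linear_combination h6
    rcases mul_eq_zero.1 h4 with h5 | h5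
    · have h6 : θ y = θ 1 := iso_eq q b f hf (by
        rw [map_one]
        ext m
        rw [hc, sub_eq_zero.1 h5, one_smul]
        rfl)
      rw [h6, map_one, map_one]
    · have h6 : θ y = θ (Y 0 * Y 1 * Y 2) := iso_eq q b f hf (by
        refine LinearMap.ext fun m => ?_
        rw [hc, eq_neg_of_add_eq_zero_left h5, hneg, neg_smul, one_smul])
      rw [h6, hκ1]
  -- `T6`
  have hT : ∀ y, spinorSign (⇑(qf q b)) κ (θ y) = 1 := by
    intro y
    refine T6l S.kit S.lin ((spinorSign (⇑(qf q b)) κ).comp θ) ?_ ?_ y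
    · rintro g ⟨c, hc⟩
      exact hsc g ⟨c, fun m => Subtype.ext (hc m)⟩
    · intro g hg
      obtain ⟨c, hc⟩ := over_s S hg
      refine hsc g ⟨c * ε, fun m => Subtype.ext ?_⟩
      change ((g : ↥(E Q)) : V ≃ₗ[F] V) (m : V) = (c * ε) • (m : V)
      rw [hc, m.2.1, smul_smul]
  -- a vector of norm `κ`
  obtain ⟨x1, y1, hxy⟩ := exists_rep S.two (hq0 0) (hq0 1) κ
  have hu : q (x1 • b 0 + y1 • b 1) = κ := by
    have h01 : polar q (b 0) (b 1) = 0 := hb 0 1 (by decide)
    rw [Q_add, QuadraticMap.map_smul, QuadraticMap.map_smul, polar_smul_left, polar_smul_right, h01]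
    simp only [smul_eq_mul, mul_zero, add_zero, smul_zero]
    exact hxy
  have hu0 : q (x1 • b 0 + y1 • b 1) ≠ 0 := by rw [hu]; exact hκ
  obtain ⟨y, hy⟩ := href _ hu0
  have h1 := hsign κ hκ _ hu0 y hy
  rw [hT y, hu, if_pos ⟨κ, rfl⟩] at h1
  exact absurd h1 (by decide)

/-- **Section 5, Arf invariant 0**: `Eh` acts trivially on `V_ε`. -/
theorem arf_zero [Finite G] [Finite F] [FiniteDimensional F V] : ∀ e ∈ Eh, ∀ v, sh v = ε • v → e v = v := by
  intro e he v hv
  have hA := AZ_of S B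
  have h3 : finrank F ↥(MM ε sh n1 n2) ≤ 3 := by
    by_contra hcon
    exact le_three S B (by omega)
  have h2 := ne_three S B
  have h4 := le_two S B (by omega) e he
  have hc : ∀ n ∈ Nh, ∀ w, e (n w) = n (e w) := fun n hn w => LinearEquiv.congr_fun (S.lk.Eh_comm e he n hn) w
  exact hA.triv_of_M (hc m1 B.m1N) (hc m2 B.m2N) (fun w hw => h4 w hw) hv

end final

end Cfsg.Agent.H100.C3
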